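import Groth.Agent.GenRankLib.Smooth
import Groth.Agent.FittLib.BaseChange

/-!
# The locus where a module over a smooth algebra is free at the generic points of the fibres
-/

set_option autoImplicit false
set_option linter.style.haveILetI false
set_option backward.isDefEq.respectTransparency false
set_option backward.isDefEq.respectTransparency.types false
set_option maxHeartbeats 1000000

universe u

open TensorProduct

noncomputable section

namespace Groth.Agent.GenRankLib

section Fitting

variable {R B : Type u} [CommRing R] [CommRing B] [Algebra R B] (M : Type u) [AddCommGroup M] [Module B M]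

/-- The Fitting ideal before the `p`th one. -/
def Fprev (B : Type u) [CommRing B] (M : Type u) [AddCommGroup M] [Module B M] (p : ℕ) : Ideal B :=
  if p = 0 then ⊥ else Fitt.ideal B M (p - 1)

theorem fitt_fg [Module.FinitePresentation B M] (k : ℕ) : (Fitt.ideal B M k).FG := by
  classical
  obtain ⟨n, x, hx⟩ := Module.Finite.exists_fin (R := B) (M := M)
  have hfg : (FittLib.Rel (R := B) x).FG :=
    Module.FinitePresentation.fg_ker _ (by rw [← LinearMap.range_eq_top, Fintype.range_linearCombination, hx])
  obtain ⟨G, hG⟩ := hfg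
  rw [FittLib.ideal_eq_D x hx, FittLib.D_eq_span_gen x _ hG]
  refine Submodule.fg_span ?_
  refine Set.Finite.subset (((Set.Finite.pi fun _ : Fin n => (G.finite_toSet.union
    (Set.finite_range fun j : Fin n => (Pi.single j 1 : Fin n → B)))).image
      fun a : Fin n → Fin n → B => Matrix.det (Matrix.of a))) ?_
  rintro _ ⟨a, T, -, h1, h2, rfl⟩
  refine ⟨fun i => a i, Set.mem_univ_pi.2 fun i => ?_, rfl⟩
  by_cases hi : i ∈ T
  · exact Or.inl (h1 i hi)
  · obtain ⟨j, hj⟩ := h2 i hi
    exact Or.inr ⟨j, hj.symm⟩

theorem fprev_fg [Module.FinitePresentation B M] (p : ℕ) : (Fprev B M p).FG := by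
  unfold Fprev
  split
  · exact Submodule.fg_bot
  · exact fitt_fg M _

theorem fprev_baseChange [Module.Finite B M] {B' M' : Type u} [CommRing B'] [Algebra B B'] [AddCommGroup M']
    [Module B' M'] [Module B M'] [IsScalarTower B B' M'] (φ : M →ₗ[B] M') (hφ : IsBaseChange B' φ) (p : ℕ) :
    Fprev B' M' p = (Fprev B M p).map (algebraMap B B') := by
  unfold Fprev
  split
  · rw [Ideal.map_bot]
  · rw [← FittLib.ideal_baseChange, FittLib.ideal_eq_of_equiv hφ.equiv]

theorem fitt_free_eq_bot (L : Type u) [CommRing L] (N : Type u) [AddCommGroup N] [Module L N] (r : ℕ)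
    (b : Module.Basis (Fin r) L N) {k : ℕ} (hk : k < r) : Fitt.ideal L N k = ⊥ := by
  classical
  rw [FittLib.ideal_eq_D b b.span_eq, eq_bot_iff, FittLib.D, Ideal.span_le]
  rintro _ ⟨a, T, hT, ha, rfl⟩
  obtain ⟨i, hi⟩ : T.Nonempty := Finset.card_pos.1 (by omega)
  rw [SetLike.mem_coe, Ideal.mem_bot]
  exact Matrix.det_eq_zero_of_row_eq_zero i fun j =>
    Fintype.linearIndependent_iff.1 b.linearIndependent _ (FittLib.mem_rel.1 (ha i hi)) j

variable [Algebra.Smooth R B] [Module R M] [IsScalarTower R B M] [Module.FinitePresentation B M]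

/-- Flatness at the generic point of a fibre makes the module free of some rank near it. -/
theorem exists_rank_of_flatAt (h : FlatCA.GeomIrredFibres R B) (t : Ideal R) [t.IsPrime]
    [(t.map (algebraMap R B)).IsPrime] (hflat : FlatCA.FlatAt R (t.map (algebraMap R B)) M) :
    ∃ p u, u ∉ t.map (algebraMap R B) ∧ (∀ x ∈ Fprev B M p, u * x = 0) ∧
      ¬ Fitt.ideal B M p ≤ t.map (algebraMap R B) := by
  classical
  let P := t.map (algebraMap R B)
  obtain ⟨r, α, hα, -⟩ := DevissLib.exists_residue_basis M P
  obtain ⟨w, hw, β, hβ⟩ := exists_leftInv h t α hα hflat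
  haveI : Nontrivial B := ⟨⟨0, 1, fun e => (inferInstance : P.IsPrime).ne_top
    ((Ideal.eq_top_iff_one P).2 (e ▸ P.zero_mem))⟩⟩
  have hr : Module.finrank P.ResidueField (P.ResidueField ⊗[B] M) = r := by
    rw [← (LinearEquiv.ofBijective _ hα).finrank_eq, Module.finrank_baseChange, Module.finrank_fin_fun]
  -- surjectivity near the point
  have hns : (⟨P, inferInstance⟩ : PrimeSpectrum B) ∉ Module.support B (M ⧸ LinearMap.range α) := fun hs => by
    haveI : Nontrivial (P.ResidueField ⊗[B] (M ⧸ LinearMap.range α)) :=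
      (Module.mem_support_iff_nontrivial_residueField_tensorProduct ⟨P, inferInstance⟩).1 hs
    haveI : Subsingleton (P.ResidueField ⊗[B] (M ⧸ LinearMap.range α)) := subsingleton_of_forall_eq 0 fun x => by
      obtain ⟨y, rfl⟩ := LinearMap.lTensor_surjective P.ResidueField (LinearMap.range α).mkQ_surjective x
      obtain ⟨z, rfl⟩ := hα.2 y
      rw [LinearMap.baseChange_eq_ltensor, ← LinearMap.lTensor_comp_apply, LinearMap.range_mkQ_comp,
        LinearMap.lTensor_zero, LinearMap.zero_apply]
    exact false_of_nontrivial_of_subsingleton (P.ResidueField ⊗[B] (M ⧸ LinearMap.range α))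
  rw [Module.mem_support_iff_of_finite, SetLike.not_le_iff_exists] at hns
  obtain ⟨c, hc, hcP⟩ := hns
  let L := Localization.AtPrime P
  have huw : IsUnit (algebraMap B L w) := IsLocalization.map_units L (⟨w, hw⟩ : P.primeCompl)
  have huc : IsUnit (algebraMap B L c) := IsLocalization.map_units L (⟨c, hcP⟩ : P.primeCompl)
  have hbij : Function.Bijective (α.baseChange L) := by
    refine ⟨fun x y hxy => ?_, fun y => ?_⟩
    · have hcomp : ∀ z, β.baseChange L (α.baseChange L z) = algebraMap B L w • z := fun z => by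
        induction z using TensorProduct.induction_on with
        | zero => simp
        | tmul a v => simp [hβ, TensorProduct.smul_tmul']
        | add a b ha hb => simp only [map_add, ha, hb, smul_add]
      exact huw.smul_left_cancel.1 (by rw [← hcomp, ← hcomp, hxy])
    · induction y using TensorProduct.induction_on with
      | zero => exact ⟨0, map_zero _⟩
      | tmul a m =>
        obtain ⟨v, hv⟩ : c • m ∈ LinearMap.range α := by
          rw [← Submodule.Quotient.mk_eq_zero, Submodule.Quotient.mk_smul]
          exact Module.mem_annihilator.1 hc _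
        refine ⟨huc.unit⁻¹ • (a ⊗ₜ v), ?_⟩
        rw [Units.smul_def, map_smul, ← Units.smul_def, inv_smul_eq_iff, LinearMap.baseChange_tmul, hv,
          Units.smul_def, IsUnit.unit_spec, algebraMap_smul, TensorProduct.tmul_smul]
      | add a b ha hb =>
        obtain ⟨a', rfl⟩ := ha
        obtain ⟨b', rfl⟩ := hb
        exact ⟨a' + b', map_add _ _ _⟩
  let b : Module.Basis (Fin r) L (L ⊗[B] M) :=
    (Algebra.TensorProduct.basis L (Pi.basisFun B (Fin r))).map (LinearEquiv.ofBijective _ hbij)
  have hkill : ∀ x ∈ Fprev B M r, ∃ u : P.primeCompl, (u : B) * x = 0 := by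
    intro x hx
    refine (IsLocalization.map_eq_zero_iff P.primeCompl L x).1 ?_
    rw [← Ideal.mem_bot]
    unfold Fprev at hx
    split at hx
    · rw [(Ideal.mem_bot).1 hx, map_zero]; exact zero_mem _
    · rw [← fitt_free_eq_bot L _ r b (show r - 1 < r by omega), FittLib.ideal_baseChange]
      exact Ideal.mem_map_of_mem _ hx
  obtain ⟨G, hG⟩ := fprev_fg (B := B) M r
  choose v hv using fun x : G => hkill x (hG.le (Ideal.subset_span x.2))
  refine ⟨r, ∏ x : G, (v x : B), fun hmem => (P.primeCompl.prod_mem fun x _ => (v x).2) hmem, fun x hx => ?_,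
    (FittLib.not_le_iff_finrank r P).2 hr.le⟩
  rw [← hG] at hx
  induction hx using Submodule.span_induction with
  | mem g hg =>
    obtain ⟨k, hk⟩ := Finset.dvd_prod_of_mem (fun x : G => (v x : B)) (Finset.mem_univ (⟨g, hg⟩ : G))
    rw [hk, mul_right_comm, hv ⟨g, hg⟩, zero_mul]
  | zero => exact mul_zero _
  | add a b _ _ ha hb => rw [mul_add, ha, hb, add_zero]
  | smul a b _ hb => rw [smul_eq_mul, mul_left_comm, hb, mul_zero]

omit [Algebra.Smooth R B] [Module.FinitePresentation B M] in
/-- The Fitting conditions make the module free, hence flat, at a point. -/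
theorem flatAt_of_rank [Module.Flat R B] [Module.Finite B M] (P : Ideal B) [P.IsPrime] (p : ℕ)
    (h1 : ∀ x ∈ Fprev B M p, ∃ u, u ∉ P ∧ u * x = 0) (h2 : ¬ Fitt.ideal B M p ≤ P) :
    FlatCA.FlatAt R P M := by
  classical
  let L := Localization.AtPrime P
  have hprev : Fprev L (L ⊗[B] M) p = ⊥ := by
    rw [fprev_baseChange M (TensorProduct.mk B L M 1) (TensorProduct.isBaseChange B M L), eq_bot_iff,
      Ideal.map_le_iff_le_comap]
    intro x hx
    obtain ⟨u, hu, hux⟩ := h1 x hx
    exact (IsLocalization.map_eq_zero_iff P.primeCompl L x).2 ⟨⟨u, hu⟩, hux⟩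
  have htop : Fitt.ideal L (L ⊗[B] M) p = ⊤ := by
    obtain ⟨x, hx, hxP⟩ := SetLike.not_le_iff_exists.1 h2
    rw [FittLib.ideal_baseChange]
    exact Ideal.eq_top_of_isUnit_mem _ (Ideal.mem_map_of_mem _ hx) (IsLocalization.map_units L (⟨x, hxP⟩ : P.primeCompl))
  obtain ⟨g, hg⟩ := FittLib.exists_span_of_ideal_eq_top htop
  have hli : LinearIndependent L g := Fintype.linearIndependent_iff.2 fun v hv i => by
    have hp : p ≠ 0 := fun h0 => absurd i.2 (by omega)
    have hd : (((1 : Matrix (Fin p) (Fin p) L).updateRow i v)).det ∈ Fitt.ideal L (L ⊗[B] M) (p - 1) := by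
      rw [FittLib.ideal_eq_D g hg]
      refine FittLib.det_mem_D {i} (by simp; omega) fun j hj => ?_
      rw [Finset.mem_singleton.1 hj, Matrix.updateRow_self]
      exact hv
    rw [show ((1 : Matrix (Fin p) (Fin p) L).updateRow i v).det = v i by
      rw [show v = ∑ l, v l • (1 : Matrix (Fin p) (Fin p) L) l from funext fun j => by simp [Matrix.one_apply],
        Matrix.det_updateRow_sum]; simp [Matrix.one_apply]] at hd
    unfold Fprev at hprev
    rw [if_neg hp] at hprev
    rwa [hprev, Ideal.mem_bot] at hd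
  haveI : Module.Free L (L ⊗[B] M) := Module.Free.of_basis (Module.Basis.mk hli hg.ge)
  haveI : Module.Flat R L := Module.Flat.trans R B L
  haveI : Module.Flat R (L ⊗[B] M) := Module.Flat.trans R L (L ⊗[B] M)
  haveI : IsLocalizedModule P.primeCompl (TensorProduct.mk B L M 1) :=
    (isLocalizedModule_iff_isBaseChange P.primeCompl L _).2 (TensorProduct.isBaseChange B M L)
  exact FlatLocus.flat_localized_of_le P.primeCompl P.primeCompl le_rfl
    (TensorProduct.mk B L M 1) (LocalizedModule.mkLinearMap P.primeCompl M)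

end Fitting

section Content

variable {A B : Type u} [CommRing A] [CommRing B] [Algebra A B]

/-- The content of an ideal of a projective algebra, for a chosen section of a free cover. -/
def content (s : B →ₗ[A] B →₀ A) (J : Ideal B) : Ideal A :=
  Ideal.span {a | ∃ b ∈ J, ∃ x, s b x = a}

theorem content_fg (s : B →ₗ[A] B →₀ A) (hs : ∀ b, Finsupp.linearCombination A id (s b) = b) (J : Ideal B)
    (hJ : J.FG) : (content s J).FG := by
  classical
  obtain ⟨G, hG⟩ := hJ
  let c : Ideal A := Ideal.span (↑(G.biUnion fun g => (s g).support.image (s g)) : Set A)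
  refine ⟨G.biUnion fun g => (s g).support.image (s g), le_antisymm (Ideal.span_le.2 fun a ha => ?_)
    (Ideal.span_le.2 ?_)⟩
  · obtain ⟨g, hg, x, -, rfl⟩ := by simpa using ha
    exact Ideal.subset_span ⟨g, hG ▸ Ideal.subset_span hg, x, rfl⟩
  · rintro _ ⟨b, hb, x, rfl⟩
    have hb' : b ∈ c.map (algebraMap A B) := by
      refine (show J ≤ c.map (algebraMap A B) from hG ▸ Submodule.span_le.2 fun g hg => ?_) hb
      rw [SetLike.mem_coe, ← hs g, Finsupp.linearCombination_apply, Finsupp.sum]
      refine sum_mem fun y hy => ?_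
      rw [Algebra.smul_def]
      exact Ideal.mul_mem_right _ _ (Ideal.mem_map_of_mem _ (Ideal.subset_span
        (Finset.mem_biUnion.2 ⟨g, hg, Finset.mem_image.2 ⟨y, hy, rfl⟩⟩)))
    rw [← Submodule.restrictScalars_mem A, ← Ideal.smul_top_eq_map] at hb'
    have := Submodule.mem_map_of_mem (f := (Finsupp.lapply x) ∘ₗ s) hb'
    rw [Submodule.map_smul''] at this
    exact (Submodule.smul_mono le_rfl le_top).trans (by rw [smul_eq_mul, Ideal.mul_top]) this

variable {A' B' : Type u} [CommRing A'] [CommRing B'] [Algebra A A'] [Algebra B B'] [Algebra A' B'] [Algebra A B']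
  [IsScalarTower A B B'] [IsScalarTower A A' B'] [Algebra.IsPushout A B A' B']
  (s : B →ₗ[A] B →₀ A) (hs : ∀ b, Finsupp.linearCombination A id (s b) = b)

include hs in
/-- An element of a base change lies in the extension of an ideal exactly when its coordinates lie in the ideal. -/
theorem mem_map_iff_coord (I : Ideal A') (b : B) (c : A') :
    c • algebraMap B B' b ∈ I.map (algebraMap A' B') ↔ ∀ x, c * algebraMap A A' (s b x) ∈ I := by
  haveI : Algebra.IsPushout A A' B B' := Algebra.IsPushout.symm inferInstance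
  have hι : IsBaseChange A' (IsScalarTower.toAlgHom A B B').toLinearMap := Algebra.IsPushout.out
  constructor
  · intro hb x
    let l : B' →ₗ[A'] A' := hι.lift ((Algebra.linearMap A A') ∘ₗ (Finsupp.lapply x) ∘ₗ s)
    rw [← Submodule.restrictScalars_mem A', ← Ideal.smul_top_eq_map] at hb
    have h1 := Submodule.mem_map_of_mem (f := l) hb
    rw [Submodule.map_smul''] at h1
    have h2 : l (c • algebraMap B B' b) = c * algebraMap A A' (s b x) := by
      rw [map_smul, smul_eq_mul]
      exact congrArg (c * ·) (hι.lift_eq _ b)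
    rw [← h2]
    exact (Submodule.smul_mono le_rfl le_top).trans (by simp) h1
  · intro h
    rw [← hs b, Finsupp.linearCombination_apply, Finsupp.sum, map_sum, Finset.smul_sum]
    refine sum_mem fun x _ => ?_
    rw [Algebra.smul_def (s b x), map_mul, ← IsScalarTower.algebraMap_apply A B B',
      IsScalarTower.algebraMap_apply A A' B', Algebra.smul_def, ← mul_assoc, ← map_mul]
    exact Ideal.mul_mem_right _ _ (Ideal.mem_map_of_mem _ (h x))

include hs in
theorem map_le_map_iff_content (I : Ideal A') (J : Ideal B) :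
    J.map (algebraMap B B') ≤ I.map (algebraMap A' B') ↔ content s J ≤ I.comap (algebraMap A A') := by
  rw [Ideal.map_le_iff_le_comap, content, Ideal.span_le]
  constructor
  · rintro h _ ⟨b, hb, x, rfl⟩
    simpa using (mem_map_iff_coord (B' := B') s hs I b 1).1 (by rw [one_smul]; exact h hb) x
  · intro h b hb
    simpa using (mem_map_iff_coord (B' := B') s hs I b 1).2 fun x => by rw [one_mul]; exact h ⟨b, hb, x, rfl⟩

end Content

section Main

variable {A B : Type u} [CommRing A] [CommRing B] [Algebra A B] (M : Type u) [AddCommGroup M] [Module B M]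

/-- The ideals cutting out the stratum of rank `p`. -/
def Iloc (s : B →ₗ[A] B →₀ A) (p : ℕ) : Ideal A := content s (Fprev B M p)

/-- The ideal of the open part of the stratum of rank `p`. -/
def Jloc (s : B →ₗ[A] B →₀ A) (p : ℕ) : Ideal A := content s (Fitt.ideal B M p)

/-- Locally on the base, one of the first `c + 1` strata. -/
def Strata (s : B →ₗ[A] B →₀ A) (c : ℕ) (A' : Type u) [CommRing A'] [Algebra A A'] : Prop :=
  ∀ (t : Ideal A') [t.IsPrime], ∃ p ≤ c, ∃ h, h ∉ t ∧
    (∀ a ∈ Iloc M s p, ∃ n : ℕ, h ^ n * algebraMap A A' a = 0) ∧ ¬ Jloc M s p ≤ t.comap (algebraMap A A')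

variable [Module A M] [IsScalarTower A B M] [Module.FinitePresentation B M]

/-- For a smooth algebra with geometrically irreducible fibres of dimension `d`, flatness in dimensions at least `d`
is lying in the union of the rank strata. -/
theorem flatInDimGE_iff_strata {d : ℕ} (hsm : FlatCA.SmoothRelDim d A B) (hirr : FlatCA.GeomIrredFibres A B)
    (s : B →ₗ[A] B →₀ A) (hs : ∀ b, Finsupp.linearCombination A id (s b) = b)
    (c : ℕ) (hc : ∀ (P : Ideal B) [P.IsPrime], Module.finrank P.ResidueField (P.ResidueField ⊗[B] M) ≤ c)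
    (A' B' M' : Type u) [CommRing A'] [CommRing B'] [Algebra A A'] [Algebra B B'] [Algebra A' B'] [Algebra A B']
    [IsScalarTower A B B'] [IsScalarTower A A' B'] [Algebra.IsPushout A B A' B']
    [AddCommGroup M'] [Module B' M'] [Module B M'] [IsScalarTower B B' M'] [Module A' M'] [IsScalarTower A' B' M']
    (φ : M →ₗ[B] M') (hφ : IsBaseChange B' φ) :
    FlatCA.FlatInDimGE d A' B' M' ↔ Strata M s c A' := by
  classical
  haveI hsmooth := DevissLib.smooth_of_smoothRelDim hsm
  haveI hpo : Algebra.IsPushout A A' B B' := Algebra.IsPushout.symm inferInstance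
  have hirr' : FlatCA.GeomIrredFibres A' B' := DevBCLib.geomIrred_bc (D := B) (D' := B') hirr
  have hsm' : FlatCA.SmoothRelDim d A' B' := DevBCLib.smoothRelDim_bc (D := B) (D' := B') hsm
  haveI hsmooth' := DevissLib.smooth_of_smoothRelDim hsm'
  haveI : Module.Flat A' B' := by
    haveI := DevissLib.projective_of_smooth hirr'
    infer_instance
  haveI : Module.FinitePresentation B' M' := Module.FinitePresentation.of_equiv hφ.equiv
  have hF : ∀ p, Fitt.ideal B' M' p = (Fitt.ideal B M p).map (algebraMap B B') := fun p => by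
    rw [← FittLib.ideal_baseChange, FittLib.ideal_eq_of_equiv hφ.equiv]
  have hJ : ∀ p (t : Ideal A') [t.IsPrime],
      ¬ Fitt.ideal B' M' p ≤ t.map (algebraMap A' B') ↔ ¬ Jloc M s p ≤ t.comap (algebraMap A A') := fun p t _ => by
    rw [hF, map_le_map_iff_content s hs]
    rfl
  rw [flatInDimGE_iff]
  constructor
  · intro hflat t ht
    haveI := DevLib.isPrime_map hirr' t
    haveI := DevissLib.liesOver_map hirr' t
    have hfl : FlatCA.FlatAt A' (t.map (algebraMap A' B')) M' := by
      by_contra hcon
      exact (lt_irrefl _) ((tr_map hsm' hirr' t).symm.trans_lt (hflat _ hcon))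
    obtain ⟨p, u, hu, hkill, hnle⟩ := exists_rank_of_flatAt M' hirr' t hfl
    obtain ⟨h, hht, hsub⟩ := DevLib.exists_basicOpen_subset_image u t (t.map (algebraMap A' B')) hu
    refine ⟨min p c, min_le_right _ _, h, hht, ?_⟩
    have hpc : min p c = p := min_eq_left ?_
    · rw [hpc]
      refine ⟨fun a ha => ?_, (hJ p t).1 hnle⟩
      let N : Ideal A' := ⊥
      have key : ∀ b ∈ Fprev B M p, ∃ n : ℕ, ∀ x, h ^ n * algebraMap A A' (s b x) = 0 := fun b hb => by
        have hb' : algebraMap B B' b ∈ Fprev B' M' p := by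
          rw [fprev_baseChange M φ hφ]; exact Ideal.mem_map_of_mem _ hb
        obtain ⟨n, hn⟩ := exists_pow_smul_eq_zero hirr' (g := h) (t := u) (fun q _ hq hmem => by
            obtain ⟨Q, hQ, hQq⟩ := hsub ⟨q, inferInstance⟩ hq
            refine hQ ((show q.map (algebraMap A' B') ≤ Q.asIdeal from Ideal.map_le_iff_le_comap.2 ?_) hmem)
            exact (congrArg PrimeSpectrum.asIdeal hQq).ge) 1
          (K := A') (z := (fun _ : Fin 1 => algebraMap B B' b) ⊗ₜ[A'] 1) (by
            rw [TensorProduct.smul_tmul']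
            have : u • (fun _ : Fin 1 => algebraMap B B' b) = 0 := funext fun _ => hkill _ hb'
            rw [this, TensorProduct.zero_tmul])
        refine ⟨n, fun x => ?_⟩
        have h1 : h ^ n • algebraMap B B' b = 0 := by
          have := congrArg (fun z => TensorProduct.rid A' (Fin 1 → B') z 0) hn
          simpa using this
        simpa using (mem_map_iff_coord s hs ⊥ b (h ^ n)).1 (by rw [h1]; exact zero_mem _) x
      induction ha using Submodule.span_induction with
      | mem a ha =>
        obtain ⟨b, hb, x, rfl⟩ := ha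
        obtain ⟨n, hn⟩ := key b hb
        exact ⟨n, hn x⟩
      | zero => exact ⟨0, by rw [map_zero, mul_zero]⟩
      | add a b _ _ ha hb =>
        obtain ⟨m, hm⟩ := ha
        obtain ⟨n, hn⟩ := hb
        refine ⟨m + n, ?_⟩
        rw [map_add, mul_add, pow_add, mul_right_comm, hm, zero_mul, mul_assoc, hn, mul_zero, add_zero]
      | smul r a _ ha =>
        obtain ⟨m, hm⟩ := ha
        exact ⟨m, by rw [smul_eq_mul, map_mul, mul_left_comm, hm, mul_zero]⟩
    · by_contra hgt
      push Not at hgt
      haveI : Nontrivial B' := ⟨⟨u, 0, fun e => hu (by rw [e]; exact zero_mem _)⟩⟩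
      have h1 : Fitt.ideal B M c = ⊤ := by
        by_contra hne
        obtain ⟨P, hP, hle⟩ := Ideal.exists_le_maximal _ hne
        haveI := hP.isPrime
        exact (FittLib.not_le_iff_finrank c P).2 (hc P) hle
      have h2 : (1 : B') ∈ Fprev B' M' p := by
        rw [fprev_baseChange M φ hφ, Fprev, if_neg (by omega)]
        have h3 : (Fitt.ideal B M (p - 1)) = ⊤ := by
          rw [eq_top_iff, ← h1]
          by_contra hne
          obtain ⟨x, hx, hxn⟩ := SetLike.not_le_iff_exists.1 hne
          obtain ⟨P, hP, hle⟩ := Ideal.exists_le_maximal _ (show Fitt.ideal B M (p - 1) ≠ ⊤ from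
            fun e => hxn (e ▸ Submodule.mem_top))
          haveI := hP.isPrime
          exact (FittLib.not_le_iff_finrank (p - 1) P).2 ((hc P).trans (by omega)) hle
        rw [h3, Ideal.map_top]
        trivial
      exact hu (by rw [show u = 0 by simpa using hkill 1 h2]; exact zero_mem _)
  · intro hstr Q hQp hQ
    have ht : (Q.under A').IsPrime := inferInstance
    let t := Q.under A'
    haveI := DevLib.isPrime_map hirr' t
    by_contra hlt
    have hQeq : Q = t.map (algebraMap A' B') := by
      by_contra hne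
      exact hlt (tr_lt hsm' hirr' t Q hne)
    refine hQ ?_
    obtain ⟨p, -, h, hht, hI, hJp⟩ := hstr t
    refine flatAt_of_rank M' Q p (fun x hx => ?_) (hQeq ▸ (hJ p t).2 hJp)
    rw [fprev_baseChange M φ hφ] at hx
    have hgen : ∀ b ∈ Fprev B M p, ∃ n : ℕ, h ^ n • algebraMap B B' b = 0 := fun b hb => by
      choose n hn using fun y => hI _ (Ideal.subset_span ⟨b, hb, y, rfl⟩ : s b y ∈ Iloc M s p)
      refine ⟨(s b).support.sup n, ?_⟩
      rw [← Ideal.mem_bot, ← Ideal.map_bot (f := algebraMap A' B')]
      refine (mem_map_iff_coord s hs ⊥ b _).2 fun y => ?_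
      rw [Ideal.mem_bot]
      by_cases hy : y ∈ (s b).support
      · obtain ⟨k, hk⟩ := Nat.le.dest (Finset.le_sup (f := n) hy)
        rw [← hk, pow_add, mul_right_comm, hn y, zero_mul]
      · rw [Finsupp.notMem_support_iff.1 hy, map_zero, mul_zero]
    have hhQ : ∀ n : ℕ, algebraMap A' B' h ^ n ∉ Q := fun n hn => hht (hQp.mem_of_pow_mem n hn)
    induction hx using Submodule.span_induction with
    | mem x hx =>
      obtain ⟨b, hb, rfl⟩ := hx
      obtain ⟨n, hn⟩ := hgen b hb
      exact ⟨_, hhQ n, by rw [← map_pow, ← Algebra.smul_def]; exact hn⟩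
    | zero => exact ⟨1, fun h1 => hQp.ne_top ((Ideal.eq_top_iff_one _).2 h1), mul_zero _⟩
    | add x y _ _ hx hy =>
      obtain ⟨v, hv, hvx⟩ := hx
      obtain ⟨w, hw, hwy⟩ := hy
      exact ⟨v * w, fun hm => (hQp.mem_or_mem hm).elim hv hw, by
        rw [mul_add, mul_right_comm, hvx, zero_mul, mul_assoc, hwy, mul_zero, add_zero]⟩
    | smul r x _ hx =>
      obtain ⟨v, hv, hvx⟩ := hx
      exact ⟨v, hv, by rw [smul_eq_mul, mul_left_comm, hvx, mul_zero]⟩

end Main

end Groth.Agent.GenRankLib
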