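import Groth.Agent.GenRankLib.Locus
import Groth.Agent.GenFreeLocus.Functor
import Groth.Agent.PullbackMod.Flat
import Groth.Agent.DevissLib.Transfer

/-!
# The locus of rank `p` on a chart mapping onto an affine open of the base
-/

set_option autoImplicit false
set_option linter.style.haveILetI false
set_option backward.isDefEq.respectTransparency false
set_option backward.defeqAttrib.useBackward true

universe u

open CategoryTheory CategoryTheory.Limits AlgebraicGeometry TopologicalSpace Opposite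
open scoped TensorProduct
open Groth.Agent.PullbackMod Groth.Agent.GenFreeLocus

namespace Groth.Agent.GenRankLib

theorem free_iff_fitt (L : Type u) [CommRing L] [IsLocalRing L] (N : Type u) [AddCommGroup N] [Module L N]
    [Module.Finite L N] (p : ℕ) :
    Nonempty (N ≃ₗ[L] (Fin p → L)) ↔ Fprev L N p = ⊥ ∧ Fitt.ideal L N p = ⊤ := by
  classical
  constructor
  · rintro ⟨e⟩
    let b : Module.Basis (Fin p) L N := Module.Basis.ofEquivFun e
    refine ⟨?_, FittLib.ideal_eq_top b b.span_eq le_rfl⟩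
    unfold Fprev
    split
    · rfl
    · exact fitt_free_eq_bot L N p b (by omega)
  · rintro ⟨hprev, htop⟩
    obtain ⟨g, hg⟩ := FittLib.exists_span_of_ideal_eq_top htop
    have hli : LinearIndependent L g := Fintype.linearIndependent_iff.2 fun v hv i => by
      have hp : p ≠ 0 := fun h0 => absurd i.2 (by omega)
      have hd : (((1 : Matrix (Fin p) (Fin p) L).updateRow i v)).det ∈ Fitt.ideal L N (p - 1) := by
        rw [FittLib.ideal_eq_D g hg]
        refine FittLib.det_mem_D {i} (by simp; omega) fun j hj => ?_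
        rw [Finset.mem_singleton.1 hj, Matrix.updateRow_self]
        exact hv
      rw [show ((1 : Matrix (Fin p) (Fin p) L).updateRow i v).det = v i by
        rw [show v = ∑ l, v l • (1 : Matrix (Fin p) (Fin p) L) l from funext fun j => by simp [Matrix.one_apply],
          Matrix.det_updateRow_sum]; simp [Matrix.one_apply]] at hd
      unfold Fprev at hprev
      rw [if_neg hp] at hprev
      rwa [hprev, Ideal.mem_bot] at hd
    exact ⟨(Module.Basis.mk hli hg.ge).equivFun⟩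

/-- Freeness at a point of an affine open through the Fitting ideals of the sections. -/
theorem freeAt_iff_fitt {Y : Scheme.{u}} (G : Y.Modules) [Coh.IsQCoh G] {D : Y.Opens} (hD : IsAffineOpen D)
    [Module.Finite Γ(Y, D) Γ(G, D)] (y : Y) (hy : y ∈ D) (p : ℕ) :
    FreeAt p G y ↔
      (∀ x ∈ Fprev Γ(Y, D) Γ(G, D) p, ∃ s, s ∉ (hD.primeIdealOf ⟨y, hy⟩).asIdeal ∧ s * x = 0) ∧
        ¬ Fitt.ideal Γ(Y, D) Γ(G, D) p ≤ (hD.primeIdealOf ⟨y, hy⟩).asIdeal := by
  letI := Module.compHom (G.presheaf.stalk y) (Y.presheaf.germ D y hy).hom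
  letI : Algebra Γ(Y, D) (Y.presheaf.stalk y) := TopCat.Presheaf.algebra_section_stalk Y.presheaf ⟨y, hy⟩
  haveI := hD.isLocalization_stalk ⟨y, hy⟩
  haveI : IsScalarTower Γ(Y, D) (Y.presheaf.stalk y) (G.presheaf.stalk y) :=
    .of_algebraMap_smul fun _ _ => rfl
  haveI := FlatLocus.isLocalizedModule_germL G hD y hy
  let P := (hD.primeIdealOf ⟨y, hy⟩).asIdeal
  let gl := FlatLocus.germL G D y hy
  have hbc : IsBaseChange (Y.presheaf.stalk y) gl := IsLocalizedModule.isBaseChange P.primeCompl _ gl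
  haveI : Module.Finite (Y.presheaf.stalk y) (G.presheaf.stalk y) :=
    Module.Finite.of_isLocalizedModule P.primeCompl gl
  have hF : Fitt.ideal (Y.presheaf.stalk y) (G.presheaf.stalk y) p =
      (Fitt.ideal Γ(Y, D) Γ(G, D) p).map (algebraMap _ _) := by
    rw [← FittLib.ideal_baseChange, FittLib.ideal_eq_of_equiv hbc.equiv]
  refine (free_iff_fitt _ _ p).trans (and_congr ?_ ?_)
  · rw [fprev_baseChange Γ(G, D) gl hbc, eq_bot_iff, Ideal.map_le_iff_le_comap]
    refine forall₂_congr fun x _ => ?_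
    rw [Ideal.mem_comap, Ideal.mem_bot, IsLocalization.map_eq_zero_iff P.primeCompl]
    exact ⟨fun ⟨s, hs⟩ => ⟨s, s.2, hs⟩, fun ⟨s, hs, hsx⟩ => ⟨⟨s, hs⟩, hsx⟩⟩
  · rw [hF]
    refine not_iff_not.1 ?_
    rw [← ne_eq, IsLocalization.map_algebraMap_ne_top_iff_disjoint P.primeCompl, not_not]
    exact ⟨fun h a ha => by_contra fun hc => Set.disjoint_left.1 h hc ha,
      fun h => Set.disjoint_left.2 fun a hc ha => hc (h ha)⟩

/-- Restriction of a geometrically irreducible morphism to an open set over its image. -/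
theorem geometricallyIrreducible_resLE {X S : Scheme.{u}} (f : X ⟶ S) [GeometricallyIrreducible f] {W : X.Opens}
    {V : S.Opens} (e : W ≤ f ⁻¹ᵁ V) [Surjective (f.resLE V W e)] : GeometricallyIrreducible (f.resLE V W e) := by
  refine ⟨fun K _ y Z fst snd h => ?_⟩
  let P := pullback f (y ≫ V.ι)
  have hP : IrreducibleSpace P := GeometricallyIrreducible.geometrically_irreducibleSpace _ _ _ (.of_hasPullback _ _)
  have h1 : IsPullback fst snd (W.ι ≫ f) (y ≫ V.ι) := by
    rw [← Scheme.Hom.resLE_comp_ι (f := f) e]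
    simpa using h.paste_horiz (IsPullback.of_horiz_isIso_mono
      (fst := 𝟙 (W : Scheme.{u})) (snd := f.resLE V W e) (f := f.resLE V W e ≫ V.ι) (g := V.ι) ⟨by simp⟩)
  let j : Z ⟶ P := pullback.lift (fst ≫ W.ι) snd (by rw [Category.assoc]; exact h1.w)
  have h2 : IsPullback fst j W.ι (pullback.fst f (y ≫ V.ι)) := by
    refine IsPullback.of_bot ?_ (pullback.lift_fst _ _ _).symm (IsPullback.of_hasPullback f (y ≫ V.ι)).flip.flip
    rw [pullback.lift_snd]
    exact h1
  haveI : IsOpenImmersion j := MorphismProperty.of_isPullback (P := @IsOpenImmersion) h2 inferInstance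
  haveI : Surjective snd := MorphismProperty.of_isPullback (P := @Surjective) h inferInstance
  obtain ⟨s⟩ := (inferInstance : Nonempty (Spec (CommRingCat.of K)))
  obtain ⟨z, -⟩ := snd.surjective s
  exact { toPreirreducibleSpace := j.isOpenEmbedding.preirreducibleSpace, toNonempty := ⟨z⟩ }

variable {X S : Scheme.{u}} (f : X ⟶ S) (F : X.Modules) [Coh.IsQCoh F] (p : ℕ) {V : S.Opens} {W : X.Opens}

/-- The points of a chart at which the `p`th Fitting ideal is trivial. -/
def rankLE (hW : IsAffineOpen W) : Set X :=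
  {x | ∃ hx : x ∈ W, ¬ Fitt.ideal Γ(X, W) Γ(F, W) p ≤ (hW.primeIdealOf ⟨x, hx⟩).asIdeal}

omit [Coh.IsQCoh F] in
theorem rankLE_eq (hW : IsAffineOpen W) :
    rankLE F p hW = ⋃ b ∈ (Fitt.ideal Γ(X, W) Γ(F, W) p : Set Γ(X, W)), (X.basicOpen b : Set X) := by
  ext x
  simp only [Set.mem_iUnion, exists_prop, SetLike.mem_coe]
  constructor
  · rintro ⟨hx, h⟩
    obtain ⟨b, hb, hbx⟩ := SetLike.not_le_iff_exists.1 h
    exact ⟨b, hb, (primeCompl_primeIdealOf hW x hx b).1 hbx⟩
  · rintro ⟨b, hb, hx⟩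
    have hxW : x ∈ W := X.basicOpen_le b hx
    exact ⟨hxW, fun h => (primeCompl_primeIdealOf hW x hxW b).2 hx (h hb)⟩

omit [Coh.IsQCoh F] in
theorem isOpen_rankLE (hW : IsAffineOpen W) : IsOpen (rankLE F p hW) := by
  rw [rankLE_eq]
  exact isOpen_biUnion fun b _ => (X.basicOpen b).2

omit [Coh.IsQCoh F] in
theorem isCompact_rankLE (hW : IsAffineOpen W) (h : (Fitt.ideal Γ(X, W) Γ(F, W) p).FG) :
    IsCompact (rankLE F p hW) := by
  obtain ⟨G, hG⟩ := h
  have : rankLE F p hW = ⋃ b ∈ G, (X.basicOpen b : Set X) := by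
    ext x
    simp only [Set.mem_iUnion, exists_prop, SetLike.mem_coe]
    constructor
    · rintro ⟨hx, hle⟩
      rw [← hG] at hle
      obtain ⟨b, hb, hbx⟩ := Set.not_subset.1 fun hsub => hle (Ideal.span_le.2 hsub)
      exact ⟨b, hb, (primeCompl_primeIdealOf hW x hx b).1 hbx⟩
    · rintro ⟨b, hb, hx⟩
      have hxW : x ∈ W := X.basicOpen_le b hx
      exact ⟨hxW, fun hle => (primeCompl_primeIdealOf hW x hxW b).2 hx (hle (hG ▸ Ideal.subset_span hb))⟩
  rw [this]
  exact G.finite_toSet.isCompact_biUnion fun b _ => (hW.basicOpen b).isCompact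

/-- The condition on an affine scheme over the chart. -/
theorem genFree_iff [Smooth f] [GeometricallyIrreducible f] (hF : CohB1.IsFT F) (hV : IsAffineOpen V)
    (hW : IsAffineOpen W) (e : W ≤ f ⁻¹ᵁ V) (hsurj : ∀ s ∈ V, ∃ x ∈ W, f x = s) :
    letI := (f.appLE V W e).hom.toAlgebra
    ∀ (s : Γ(X, W) →ₗ[Γ(S, V)] Γ(X, W) →₀ Γ(S, V)),
      (∀ b, Finsupp.linearCombination Γ(S, V) id (s b) = b) →
      ∀ (T : Over S) [IsAffine T.left] (eT : (⊤ : T.left.Opens) ≤ T.hom ⁻¹ᵁ V),
        GenFree f F p T ↔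
          content s (Fprev Γ(X, W) Γ(F, W) p) ≤ RingHom.ker (T.hom.appLE V ⊤ eT).hom ∧
            ∀ t, T.hom t ∈ f '' rankLE F p hW := by
  letI := (f.appLE V W e).hom.toAlgebra
  intro s hs T _ eT
  have hc : IsPullback (pullback.fst f T.hom) (pullback.snd f T.hom) f T.hom := IsPullback.of_hasPullback _ _
  obtain ⟨hD, hpo⟩ := isPushout_appLE hc hV hW (isAffineOpen_top T.left) e eT
  let g' := pullback.fst f T.hom
  let q := pullback.snd f T.hom
  let D : (pullback f T.hom).Opens := g' ⁻¹ᵁ W ⊓ q ⁻¹ᵁ ⊤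
  letI : Algebra Γ(S, V) Γ(T.left, ⊤) := (T.hom.appLE V ⊤ eT).hom.toAlgebra
  letI : Algebra Γ(X, W) Γ(pullback f T.hom, D) := (g'.appLE W D inf_le_left).hom.toAlgebra
  letI : Algebra Γ(T.left, ⊤) Γ(pullback f T.hom, D) := (q.appLE ⊤ D inf_le_right).hom.toAlgebra
  letI : Algebra Γ(S, V) Γ(pullback f T.hom, D) :=
    ((g'.appLE W D inf_le_left).hom.comp (f.appLE V W e).hom).toAlgebra
  haveI : IsScalarTower Γ(S, V) Γ(X, W) Γ(pullback f T.hom, D) := .of_algebraMap_eq fun _ => rfl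
  haveI : IsScalarTower Γ(S, V) Γ(T.left, ⊤) Γ(pullback f T.hom, D) := .of_algebraMap_eq' (by
      show ((f.appLE V W e) ≫ g'.appLE W _ inf_le_left).hom =
        ((T.hom.appLE V ⊤ eT) ≫ q.appLE ⊤ _ inf_le_right).hom
      simp only [Scheme.Hom.appLE_comp_appLE, g', q, hc.w])
  haveI : Algebra.IsPushout Γ(S, V) Γ(T.left, ⊤) Γ(X, W) Γ(pullback f T.hom, D) := hpo
  haveI : Algebra.IsPushout Γ(S, V) Γ(X, W) Γ(T.left, ⊤) Γ(pullback f T.hom, D) := Algebra.IsPushout.symm hpo
  -- the sections of the module on the chart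
  haveI := QCohLib.finite_sections F hF hW
  let G := FGA.ET f F T
  haveI : Coh.IsQCoh G := isQCoh_pullback g' F
  obtain ⟨φ, -⟩ := exists_pullback_sections_equiv g' F hW hD inf_le_left
  haveI : Module.Finite Γ(pullback f T.hom, D) Γ(G, D) := Module.Finite.equiv φ
  have hFitt : ∀ k, Fitt.ideal Γ(pullback f T.hom, D) Γ(G, D) k =
      (Fitt.ideal Γ(X, W) Γ(F, W) k).map (algebraMap _ _) := fun k => by
    rw [← FittLib.ideal_baseChange]
    exact (FittLib.ideal_eq_of_equiv φ k).symm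
  have hprev : Fprev Γ(pullback f T.hom, D) Γ(G, D) p = (Fprev Γ(X, W) Γ(F, W) p).map (algebraMap _ _) := by
    unfold Fprev
    split
    · rw [Ideal.map_bot]
    · exact hFitt _
  have hgenD : ∀ η, FlatFun.IsGenericPtOfFibre q η → η ∈ D := fun η hη => by
    obtain ⟨x, hxW, hx⟩ := hsurj (T.hom (q η)) (eT trivial)
    obtain ⟨y, hy1, hy2⟩ := Scheme.Pullback.exists_preimage_pullback (f := f) (g := T.hom) x (q η) hx
    exact (hη y hy2).mem_open D.2 ⟨show g' y ∈ W from hy1.symm ▸ hxW, trivial⟩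
  have hcomap : ∀ (y : ↥(pullback f T.hom)) (hy : y ∈ D),
      ¬ Fitt.ideal Γ(pullback f T.hom, D) Γ(G, D) p ≤ (hD.primeIdealOf ⟨y, hy⟩).asIdeal ↔
        g' y ∈ rankLE F p hW := fun y hy => by
    rw [hFitt, Ideal.map_le_iff_le_comap,
      show (hD.primeIdealOf ⟨y, hy⟩).asIdeal.comap (algebraMap Γ(X, W) Γ(pullback f T.hom, D)) =
        (hW.primeIdealOf ⟨g' y, hy.1⟩).asIdeal from
        congrArg PrimeSpectrum.asIdeal (IsAffineOpen.comap_primeIdealOf_appLE W hW D hD inf_le_left hy)]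
    exact ⟨fun h => ⟨hy.1, h⟩, fun ⟨_, h⟩ => h⟩
  have hkill : content s (Fprev Γ(X, W) Γ(F, W) p) ≤ RingHom.ker (T.hom.appLE V ⊤ eT).hom ↔
      Fprev Γ(pullback f T.hom, D) Γ(G, D) p = ⊥ := by
    rw [hprev, eq_bot_iff, ← Ideal.map_bot (f := algebraMap Γ(T.left, ⊤) Γ(pullback f T.hom, D))]
    exact (map_le_map_iff_content (B' := Γ(pullback f T.hom, D)) s hs ⊥ _).symm
  constructor
  · intro h
    refine ⟨hkill.2 (eq_bot_iff.2 fun b hb => Ideal.mem_bot.2 ?_), fun t => ?_⟩
    · haveI : Algebra.Smooth Γ(T.left, ⊤) Γ(pullback f T.hom, D) := by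
        have h : (q.appLE ⊤ D inf_le_right).hom.Smooth :=
          HasRingHomProperty.appLE @Smooth q inferInstance ⟨_, isAffineOpen_top T.left⟩ ⟨D, hD⟩ inf_le_right
        exact h
      have hsq : ∀ Q : PrimeSpectrum Γ(pullback f T.hom, D), (isAffineOpen_top T.left).fromSpec
          (PrimeSpectrum.comap (algebraMap Γ(T.left, ⊤) Γ(pullback f T.hom, D)) Q) = q (hD.fromSpec Q) := fun Q =>
        (congrArg (fun φ => φ Q) ((isAffineOpen_top T.left).SpecMap_appLE_fromSpec q hD inf_le_right) :)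
      have hgen' : ∀ Q : PrimeSpectrum Γ(pullback f T.hom, D), MinInFibre Γ(T.left, ⊤) Q.asIdeal →
          FlatFun.IsGenericPtOfFibre q (hD.fromSpec Q) := fun Q hQ => by
        obtain ⟨η, hηt, hη⟩ := exists_genericPt q (q (hD.fromSpec Q))
        have hsp : η ⤳ hD.fromSpec Q := hη _ hηt.symm
        obtain ⟨Q', rfl⟩ : η ∈ Set.range hD.fromSpec := hD.range_fromSpec.ge (hgenD η hη)
        have hle : Q'.asIdeal ≤ Q.asIdeal := (PrimeSpectrum.le_iff_specializes Q' Q).2
          (hD.fromSpec.isEmbedding.isInducing.specializes_iff.1 hsp)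
        have hc : PrimeSpectrum.comap (algebraMap Γ(T.left, ⊤) Γ(pullback f T.hom, D)) Q' =
            PrimeSpectrum.comap (algebraMap Γ(T.left, ⊤) Γ(pullback f T.hom, D)) Q :=
          (isAffineOpen_top T.left).fromSpec.isEmbedding.injective (by rw [hsq, hsq]; exact hηt)
        have := hQ.2 Q'.asIdeal Q'.2 hle (congrArg PrimeSpectrum.asIdeal hc)
        rwa [← PrimeSpectrum.ext this]
      refine eq_zero_of_vanish (A := Γ(T.left, ⊤)) (fun Q Q' hQ hQ' h => ?_) b fun Q hQ => ?_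
      · have h1 := genericPt_unique q (hgen' ⟨Q, hQ.1⟩ hQ) (hgen' ⟨Q', hQ'.1⟩ hQ') (by
          rw [← hsq, ← hsq]
          exact congrArg (isAffineOpen_top T.left).fromSpec (PrimeSpectrum.ext h))
        exact congrArg PrimeSpectrum.asIdeal (hD.fromSpec.isEmbedding.injective h1)
      · let η := hD.fromSpec (⟨Q, hQ.1⟩ : PrimeSpectrum Γ(pullback f T.hom, D))
        have hηD : η ∈ D := hD.range_fromSpec.le ⟨_, rfl⟩
        have hP : (hD.primeIdealOf ⟨η, hηD⟩).asIdeal = Q :=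
          congrArg PrimeSpectrum.asIdeal (hD.fromSpec.isEmbedding.injective
            (show hD.fromSpec (hD.primeIdealOf ⟨η, hηD⟩) = _ from hD.fromSpec_primeIdealOf ⟨η, hηD⟩))
        exact hP ▸ ((freeAt_iff_fitt G hD η hηD p).1 (h η (hgen' ⟨Q, hQ.1⟩ hQ))).1 b hb
    · obtain ⟨η, hηt, hη⟩ := exists_genericPt q t
      refine ⟨g' η, (hcomap η (hgenD η hη)).1 ((freeAt_iff_fitt G hD η (hgenD η hη) p).1 (h η hη)).2, ?_⟩
      rw [← hηt, ← Scheme.Hom.comp_apply, hc.w, Scheme.Hom.comp_apply]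
  · rintro ⟨hI, hJ⟩ η hη
    refine (freeAt_iff_fitt G hD η (hgenD η hη) p).2 ⟨fun x hx => ⟨1,
      fun h1 => (hD.primeIdealOf ⟨η, hgenD η hη⟩).2.ne_top ((Ideal.eq_top_iff_one _).2 h1), ?_⟩, ?_⟩
    · rw [hkill.1 hI, Ideal.mem_bot] at hx
      rw [hx, mul_zero]
    · rw [hcomap]
      obtain ⟨x, hx, hxe⟩ := hJ (q η)
      obtain ⟨y, hy1, hy2⟩ := Scheme.Pullback.exists_preimage_pullback (f := f) (g := T.hom) x (q η) hxe
      exact ((hη y hy2).map g'.continuous).mem_open (isOpen_rankLE F p hW) (show g' y ∈ _ from hy1.symm ▸ hx)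

end Groth.Agent.GenRankLib
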