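import Mathlib

/-!
A property of morphisms to `S` which is local on the source and represented over the members of a basis of affine opens of `S`
by a monomorphism is represented over `S`.
-/

set_option autoImplicit false
set_option backward.isDefEq.respectTransparency false
set_option backward.defeqAttrib.useBackward true
set_option linter.style.haveILetI false

universe u

open CategoryTheory CategoryTheory.Limits AlgebraicGeometry

noncomputable section

namespace Groth.Agent.FactorBasis

variable {S : Scheme.{u}}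

/-- The cover by the members of a basis of affine opens. -/
def basisCover (G : Set S.affineOpens) (hG : TopologicalSpace.Opens.IsBasis ((fun V => V.1) '' G)) : S.OpenCover where
  I₀ := G
  X V := (V : S.affineOpens).1
  f V := (V : S.affineOpens).1.ι
  mem₀ := by
    rw [Scheme.presieve₀_mem_precoverage_iff]
    refine ⟨fun x => ?_, inferInstance⟩
    obtain ⟨_, ⟨V, hV, rfl⟩, hxV, -⟩ :=
      TopologicalSpace.Opens.isBasis_iff_nbhd.1 hG (TopologicalSpace.Opens.mem_top x)
    exact ⟨⟨V, hV⟩, by simpa using hxV⟩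

instance (G : Set S.affineOpens) (hG : TopologicalSpace.Opens.IsBasis ((fun V => V.1) '' G)) :
    Preorder (basisCover G hG).I₀ := inferInstanceAs <| Preorder G

set_option backward.isDefEq.respectTransparency.types false in
instance instLocallyDirected (G : Set S.affineOpens)
    (hG : TopologicalSpace.Opens.IsBasis ((fun V => V.1) '' G)) :
    Scheme.Cover.LocallyDirected (basisCover G hG) :=
  .ofIsBasisOpensRange (by intros; simp [basisCover]) <| by
    convert! hG
    ext U
    simp [basisCover]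

variable (G : Set S.affineOpens) (hG : TopologicalSpace.Opens.IsBasis ((fun V => V.1) '' G))
  (P : ∀ ⦃T : Scheme.{u}⦄, (T ⟶ S) → Prop)
  (hcomp : ∀ ⦃T' T : Scheme.{u}⦄ (a : T' ⟶ T) (u : T ⟶ S), P u → P (a ≫ u))
  (hloc : ∀ ⦃T : Scheme.{u}⦄ (u : T ⟶ S),
    (∀ t : T, ∃ W : T.Opens, t ∈ W ∧ P (W.ι ≫ u)) → P u)
  (Z : G → Scheme.{u}) (e : ∀ V : G, Z V ⟶ (V.1.1 : Scheme.{u})) (he : ∀ V, Mono (e V))
  (huniv : ∀ (V : G) (T : Scheme.{u}) (v : T ⟶ (V.1 : Scheme.{u})),
    (∃ v' : T ⟶ Z V, v' ≫ e V = v) ↔ P (v ≫ V.1.1.ι))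

include huniv in
theorem exists_trans {V W : G} (h : V ≤ W) :
    ∃ k : Z V ⟶ Z W, k ≫ e W = e V ≫ S.homOfLE h :=
  (huniv W (Z V) _).2 (by
    rw [Category.assoc, Scheme.homOfLE_ι]
    exact (huniv V (Z V) (e V)).1 ⟨𝟙 _, Category.id_comp _⟩)

/-- A monomorphic piece pulled back is monomorphic. -/
theorem mono_snd_of_isPullback {A B C D : Scheme.{u}} {f : A ⟶ B} {g : A ⟶ C} {h : B ⟶ D} {k : C ⟶ D}
    (hp : IsPullback f g h k) [Mono f] : Mono (pullback.snd k h) := by
  have h2 : pullback.snd k h = hp.flip.isoPullback.inv ≫ f := by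
    rw [Iso.eq_inv_comp]
    exact hp.flip.isoPullback_hom_snd
  rw [h2]
  infer_instance

include hG hcomp hloc he huniv in
/-- The gluing. The last clause says that the local pieces are pulled back from the glued morphism. -/
theorem exists_glued : ∃ (Y : Scheme.{u}) (i : Y ⟶ S), Mono i ∧
    (∀ V : G, ∃ j : Z V ⟶ Y, IsPullback (e V) j V.1.1.ι i) ∧
    ∀ (T : Scheme.{u}) (u : T ⟶ S), (∃ u' : T ⟶ Y, u' ≫ i = u) ↔ P u := by
  haveI := he
  choose k hk using fun (V W : G) (h : V ≤ W) => exists_trans G P Z e huniv h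
  let F : (basisCover G hG).I₀ ⥤ Scheme.{u} :=
    { obj := fun V => Z V
      map := fun {V W} h => k V W (leOfHom h)
      map_id := fun V => by
        rw [← cancel_mono (e V), hk, Category.id_comp]
        simp
      map_comp := fun {U V W} f g => by
        rw [← cancel_mono (e W), Category.assoc, hk, hk, reassoc_of% (hk U V (leOfHom f))]
        simp }
  let η : F ⟶ (basisCover G hG).functorOfLocallyDirected :=
    { app := fun V => e V
      naturality := fun {V W} f => by
        refine (hk V W (leOfHom f)).trans ?_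
        rfl }
  have heq : η.Equifibered := by
    intro V W f
    have hs : ∀ s : PullbackCone (η.app W) ((basisCover G hG).functorOfLocallyDirected.map f),
        P (s.snd ≫ V.1.1.ι) := fun s => by
      have := (huniv W s.pt (s.fst ≫ e W)).1 ⟨s.fst, rfl⟩
      rw [show s.fst ≫ e W = s.snd ≫ S.homOfLE (leOfHom f) from s.condition, Category.assoc, Scheme.homOfLE_ι] at this
      exact this
    refine IsPullback.mk ⟨η.naturality f⟩ ⟨PullbackCone.IsLimit.mk (η.naturality f) (fun s => ?_) ?_ ?_ ?_⟩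
    · exact Classical.choose ((huniv V s.pt s.snd).2 (hs s))
    · intro s
      rw [← cancel_mono (e W)]
      refine Eq.trans ?_ s.condition.symm
      rw [Category.assoc]
      refine (congrArg (_ ≫ ·) (η.naturality f)).trans ?_
      rw [← Category.assoc]
      congr 1
      exact Classical.choose_spec ((huniv V s.pt s.snd).2 (hs s))
    · intro s
      exact Classical.choose_spec ((huniv V s.pt s.snd).2 (hs s))
    · intro s m h1 h2
      rw [← cancel_mono (e V)]
      exact h2.trans (Classical.choose_spec ((huniv V s.pt s.snd).2 (hs s))).symm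
  let d : (basisCover G hG).RelativeGluingData := ⟨F, η, heq⟩
  haveI : (d.functor ⋙ Scheme.forget).IsLocallyDirected :=
    Scheme.Cover.RelativeGluingData.instIsLocallyDirectedI₀CompFunctorForgetOfIsThin ..
  haveI : Small.{u} (basisCover G hG).I₀ := inferInstanceAs (Small.{u} G)
  haveI : Quiver.IsThin (basisCover G hG).I₀ := fun _ _ => inferInstance
  haveI : ∀ {i j : (basisCover G hG).I₀} (f : i ⟶ j), IsOpenImmersion (d.functor.map f) := fun {i j} f =>
    @Scheme.Cover.RelativeGluingData.instIsOpenImmersionMapI₀Functor _ _ _ _ d i j f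
  haveI : HasColimit d.functor := inferInstance
  have hpb : ∀ V : G, IsPullback (e V) (colimit.ι d.functor V) V.1.1.ι d.toBase := fun V =>
    d.isPullback_natTrans_ι_toBase V
  have hlift : ∀ (T : Scheme.{u}) (u : T ⟶ S) (V : G), P u → Set.range u ⊆ (V.1.1 : Set S) →
      ∃ u' : T ⟶ d.glued, u' ≫ d.toBase = u := by
    intro T u V hu hr
    have hr' : Set.range u ⊆ Set.range V.1.1.ι := by rwa [Scheme.Opens.range_ι]
    obtain ⟨v', hv'⟩ := (huniv V T (IsOpenImmersion.lift V.1.1.ι u hr')).2 (by rwa [IsOpenImmersion.lift_fac])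
    refine ⟨v' ≫ colimit.ι d.functor V, ?_⟩
    rw [Category.assoc, ← (hpb V).w, ← Category.assoc, hv', IsOpenImmersion.lift_fac]
  have hmono : Mono d.toBase := by
    refine IsZariskiLocalAtTarget.of_openCover (P := MorphismProperty.monomorphisms Scheme.{u})
      (basisCover G hG) fun V => ?_
    show Mono (pullback.snd d.toBase V.1.1.ι)
    exact mono_snd_of_isPullback (hpb V)
  haveI := hmono
  have hP : P d.toBase := by
    refine hloc _ fun t => ?_
    obtain ⟨_, ⟨V, hV, rfl⟩, htV, -⟩ :=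
      TopologicalSpace.Opens.isBasis_iff_nbhd.1 hG (TopologicalSpace.Opens.mem_top (d.toBase t))
    refine ⟨d.toBase ⁻¹ᵁ V.1, htV, ?_⟩
    let a := (hpb ⟨V, hV⟩).lift (d.toBase ∣_ V.1) (d.toBase ⁻¹ᵁ V.1).ι (by rw [morphismRestrict_ι])
    have ha : a ≫ e ⟨V, hV⟩ = d.toBase ∣_ V.1 := (hpb ⟨V, hV⟩).lift_fst _ _ _
    have := (huniv ⟨V, hV⟩ _ _).1 ⟨a, ha⟩
    rwa [morphismRestrict_ι] at this
  refine ⟨d.glued, d.toBase, hmono, fun V => ⟨_, hpb V⟩, fun T u => ⟨?_, fun hu => ?_⟩⟩
  · rintro ⟨u', rfl⟩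
    exact hcomp u' _ hP
  · choose W hW htW using fun t : T => show ∃ W : G, u t ∈ W.1.1 ∧ True by
      obtain ⟨_, ⟨V, hV, rfl⟩, htV, -⟩ :=
        TopologicalSpace.Opens.isBasis_iff_nbhd.1 hG (TopologicalSpace.Opens.mem_top (u t))
      exact ⟨⟨V, hV⟩, htV, trivial⟩
    let 𝒲 : T.OpenCover := T.openCoverOfIsOpenCover (fun t => u ⁻¹ᵁ (W t).1.1)
      (eq_top_iff.2 fun t _ => TopologicalSpace.Opens.mem_iSup.2 ⟨t, hW t⟩)
    choose g hg using fun t : T => hlift _ ((u ⁻¹ᵁ (W t).1.1).ι ≫ u) (W t) (hcomp _ _ hu) (by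
      rintro _ ⟨x, rfl⟩
      exact x.2)
    refine ⟨𝒲.glueMorphisms g (fun a b => ?_), 𝒲.hom_ext _ _ fun t => ?_⟩
    · rw [← cancel_mono d.toBase, Category.assoc, Category.assoc, hg, hg]
      show pullback.fst (u ⁻¹ᵁ (W a).1.1).ι (u ⁻¹ᵁ (W b).1.1).ι ≫ _ = _
      rw [pullback.condition_assoc]
      rfl
    · rw [← Category.assoc, Scheme.Cover.ι_glueMorphisms]
      exact hg t

include hG in
/-- The glued morphism has every target-local property of the pieces. -/
theorem of_pieces (Q : MorphismProperty Scheme.{u}) [IsZariskiLocalAtTarget Q] {Y : Scheme.{u}} (i : Y ⟶ S)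
    (hpb : ∀ V : G, ∃ j : Z V ⟶ Y, IsPullback (e V) j V.1.1.ι i) (hQ : ∀ V, Q (e V)) : Q i := by
  refine IsZariskiLocalAtTarget.of_openCover (P := Q) (basisCover G hG) fun V => ?_
  obtain ⟨j, hj⟩ := hpb V
  show Q (pullback.snd i V.1.1.ι)
  have h2 : pullback.snd i V.1.1.ι = hj.flip.isoPullback.inv ≫ e V := by
    rw [Iso.eq_inv_comp]
    exact hj.flip.isoPullback_hom_snd
  rw [h2, Q.cancel_left_of_respectsIso]
  exact hQ V

end Groth.Agent.FactorBasis
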