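import Groth.Prelude.Def_FlatCA
import Groth.Agent.DevLib.Ops
import Groth.Agent.DevissLib.Spread
import Groth.Agent.DevissLib.Basis
import Groth.Agent.DimFormulaLib.Misc
import Groth.Agent.DimFormulaLib.Chart
import Groth.Agent.FlatAboveLib.Finite
import Groth.Agent.S2768

/-!
# Transcendence degrees in fibres, and flatness in dimensions at least `n` along finite algebras
-/

set_option autoImplicit false
set_option linter.style.haveILetI false
set_option backward.isDefEq.respectTransparency false
set_option backward.isDefEq.respectTransparency.types false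
set_option maxHeartbeats 1000000

universe u

open CategoryTheory AlgebraicGeometry TensorProduct

noncomputable section

namespace Groth.Agent.GenRankLib

/-- The transcendence degree of a prime over its image. -/
def tr (A : Type u) {B : Type u} [CommRing A] [CommRing B] [Algebra A B] (Q : Ideal B) [Q.IsPrime] : Cardinal.{u} :=
  Algebra.trdeg (A ⧸ Q.under A) (B ⧸ Q)

theorem tr_eq {A B : Type u} [CommRing A] [CommRing B] [Algebra A B] (t : Ideal A) (Q : Ideal B) [Q.IsPrime]
    [h : Q.LiesOver t] : tr A Q = Algebra.trdeg (A ⧸ t) (B ⧸ Q) := by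
  obtain rfl : t = Q.under A := h.over
  rfl

theorem flatInDimGE_iff (n : ℕ) (A B : Type u) [CommRing A] [CommRing B] [Algebra A B] (N : Type u)
    [AddCommGroup N] [Module B N] [Module A N] [IsScalarTower A B N] :
    FlatCA.FlatInDimGE n A B N ↔ ∀ (Q : Ideal B) [Q.IsPrime], ¬ FlatCA.FlatAt A Q N → tr A Q < n := by
  have key : ∀ (t : Ideal A) (Q : Ideal B) [t.IsPrime] [Q.IsPrime] [h : Q.LiesOver t],
      letI : Algebra t.ResidueField Q.ResidueField :=
        (Ideal.ResidueField.mapₐ t Q (Algebra.ofId A B) h.over).toRingHom.toAlgebra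
      Algebra.trdeg t.ResidueField Q.ResidueField = tr A Q := fun t Q _ _ h => by
    letI : Algebra t.ResidueField Q.ResidueField :=
      (Ideal.ResidueField.mapₐ t Q (Algebra.ofId A B) h.over).toRingHom.toAlgebra
    haveI : IsScalarTower A t.ResidueField Q.ResidueField := IsScalarTower.of_algebraMap_eq fun a =>
      ((Ideal.ResidueField.mapₐ t Q (Algebra.ofId A B) h.over).commutes a).symm
    rw [DimFormulaLib.Chart.trdeg_primeResidueField, tr_eq t Q]
  constructor
  · intro hf Q _ hQ
    haveI : (Q.under A).IsPrime := inferInstance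
    exact key (Q.under A) Q ▸ hf (Q.under A) Q hQ
  · intro hf t Q _ _ h hQ
    exact (key t Q).trans_lt (hf Q hQ)

section Finite

variable {A B C : Type u} [CommRing A] [CommRing B] [CommRing C] [Algebra A B] [Algebra A C] [Algebra B C]
  [IsScalarTower A B C] [Module.Finite B C]

theorem tr_comap (Q : Ideal C) [Q.IsPrime] : tr A (Q.under B) = tr A Q := by
  haveI : (Q.under B).LiesOver (Q.under A) := ⟨(Ideal.under_under Q).symm⟩
  rw [tr_eq (Q.under A) (Q.under B), tr_eq (Q.under A) Q]
  haveI : IsScalarTower (A ⧸ Q.under A) (B ⧸ Q.under B) (C ⧸ Q) := IsScalarTower.of_algebraMap_eq fun a => by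
    obtain ⟨a, rfl⟩ := Ideal.Quotient.mk_surjective a
    exact congrArg (Ideal.Quotient.mk Q) (IsScalarTower.algebraMap_apply A B C a)
  haveI : FaithfulSMul (A ⧸ Q.under A) (B ⧸ Q.under B) := Ideal.Quotient.instFaithfulSMul _ _
  haveI : FaithfulSMul (B ⧸ Q.under B) (C ⧸ Q) := Ideal.Quotient.instFaithfulSMul _ _
  haveI : Algebra.IsIntegral B C := Algebra.IsIntegral.of_finite B C
  haveI : Algebra.IsIntegral (B ⧸ Q.under B) (C ⧸ Q) := inferInstance
  rw [← trdeg_add_eq (A ⧸ Q.under A) (B ⧸ Q.under B) (A := C ⧸ Q),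
    trdeg_eq_zero (R := B ⧸ Q.under B) (A := C ⧸ Q), add_zero]

/-- Flatness in dimensions at least `n` can be tested over a finite algebra acting on the module. -/
theorem flatInDimGE_finite_iff (n : ℕ) (N : Type u) [AddCommGroup N] [Module C N] [Module B N] [IsScalarTower B C N]
    [Module A N] [IsScalarTower A B N] [IsScalarTower A C N] :
    FlatCA.FlatInDimGE n A B N ↔ FlatCA.FlatInDimGE n A C N := by
  haveI : Algebra.IsIntegral B C := Algebra.IsIntegral.of_finite B C
  rw [flatInDimGE_iff, flatInDimGE_iff]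
  constructor
  · intro h Q _ hQ
    rw [← tr_comap (B := B) Q]
    exact h _ fun hf => hQ ((FlatAboveLib.flatAt_iff_of_integral (T := C) N (Q.under B)).1 hf Q rfl)
  · intro h P _ hP
    by_contra hlt
    refine hP ((FlatAboveLib.flatAt_iff_of_integral (T := C) N P).2 fun Q _ hQ => ?_)
    by_contra hf
    refine hlt ?_
    have := h Q hf
    rwa [← tr_comap (B := B) Q, show tr A (Q.under B) = tr A P by subst hQ; rfl] at this

end Finite

/-- Flatness in dimensions at least `n` does not see isomorphisms of the module. -/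
theorem flatInDimGE_equiv (n : ℕ) {A B : Type u} [CommRing A] [CommRing B] [Algebra A B] {M N : Type u}
    [AddCommGroup M] [Module B M] [Module A M] [IsScalarTower A B M]
    [AddCommGroup N] [Module B N] [Module A N] [IsScalarTower A B N] (e : M ≃ₗ[B] N) :
    FlatCA.FlatInDimGE n A B M ↔ FlatCA.FlatInDimGE n A B N := by
  rw [flatInDimGE_iff, flatInDimGE_iff]
  exact forall₂_congr fun Q _ => by rw [FlatAboveLib.flatAt_equiv Q e]

section Smooth

variable {A B : Type u} [CommRing A] [CommRing B] [Algebra A B] {e : ℕ}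

theorem ringKrullDim_fiber_eq (h : FlatCA.SmoothRelDim e A B) (p : Ideal A) [p.IsPrime] [Nontrivial (p.Fiber B)] :
    ringKrullDim (p.Fiber B) = e := by
  haveI := h
  haveI := smoothOfRelativeDimension_isStableUnderBaseChange (n := e)
  have sq := isPullback_SpecMap_of_isPushout _ _ _ _
    (CommRingCat.isPushout_tensorProduct A p.ResidueField B)
  haveI : SmoothOfRelativeDimension e
      (Spec.map (CommRingCat.ofHom (Algebra.TensorProduct.includeLeftRingHom :
        p.ResidueField →+* p.Fiber B))) :=
    MorphismProperty.of_isPullback sq.flip h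
  rw [← PrimeSpectrum.topologicalKrullDim_eq_ringKrullDim, S5792.result (PrimeSpectrum (p.Fiber B))]
  refine le_antisymm (iSup_le fun x => (S2768.localDim_eq e
    (Spec.map (CommRingCat.ofHom (Algebra.TensorProduct.includeLeftRingHom :
      p.ResidueField →+* p.Fiber B))) x).le) ?_
  obtain ⟨x⟩ := (inferInstance : Nonempty (PrimeSpectrum (p.Fiber B)))
  exact le_iSup_of_le x (S2768.localDim_eq e
    (Spec.map (CommRingCat.ofHom (Algebra.TensorProduct.includeLeftRingHom :
      p.ResidueField →+* p.Fiber B))) x).ge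

theorem mem_map_iff [Algebra.Smooth A B] (hirr : FlatCA.GeomIrredFibres A B) (t : Ideal A) [t.IsPrime] (b : B) :
    b ∈ t.map (algebraMap A B) ↔ CAlgFib.ι (S := B) t b = 0 := by
  haveI := DevLib.isPrime_map hirr t
  haveI := DevissLib.liesOver_map hirr t
  exact ⟨fun hb => (show t.map (algebraMap A B) ≤ RingHom.ker (CAlgFib.ι (S := B) t) from
    Ideal.map_le_iff_le_comap.2 fun r hr => CAlgFib.ι_eq_zero t hr) hb, (DevissLib.fibre_domain t (D := B)).2 b⟩

variable (hsm : FlatCA.SmoothRelDim e A B) (hirr : FlatCA.GeomIrredFibres A B)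

include hsm hirr in
/-- The generic point of a fibre has transcendence degree the relative dimension. -/
theorem tr_map (t : Ideal A) [t.IsPrime] [(t.map (algebraMap A B)).IsPrime] : tr A (t.map (algebraMap A B)) = e := by
  haveI := DevissLib.smooth_of_smoothRelDim hsm
  haveI := DevissLib.liesOver_map hirr t
  haveI hdom : IsDomain (t.Fiber B) := (DevissLib.fibre_domain t (D := B)).1
  haveI : (⊥ : Ideal (t.Fiber B)).IsPrime := Ideal.isPrime_bot
  have hc : (⊥ : Ideal (t.Fiber B)).comap (Algebra.TensorProduct.includeRight : B →ₐ[A] t.Fiber B).toRingHom =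
      t.map (algebraMap A B) := Ideal.ext fun b => (mem_map_iff hirr t b).symm
  rw [tr_eq t, ← DimFormulaLib.trdeg_fibre t (t.map (algebraMap A B)) ⊥ hc]
  obtain ⟨m, hm⟩ := DimFormulaLib.exists_nat_trdeg_quotient t.ResidueField (t.Fiber B) (⊥ : Ideal (t.Fiber B))
  have h1 := DimFormulaLib.ringKrullDim_eq_trdeg t.ResidueField m hm
  rw [ringKrullDim_eq_of_ringEquiv (RingEquiv.quotientBot (t.Fiber B)), ringKrullDim_fiber_eq hsm t] at h1
  rw [hm, show m = e by exact_mod_cast h1.symm]

include hsm hirr in
/-- The other points of a fibre have smaller transcendence degree. -/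
theorem tr_lt (t : Ideal A) [t.IsPrime] (Q : Ideal B) [Q.IsPrime] [Q.LiesOver t] (h : Q ≠ t.map (algebraMap A B)) :
    tr A Q < e := by
  haveI := DevissLib.smooth_of_smoothRelDim hsm
  haveI := DevLib.isPrime_map hirr t
  haveI := DevissLib.liesOver_map hirr t
  let P : PrimeSpectrum B := ⟨t.map (algebraMap A B), inferInstance⟩
  let P' : PrimeSpectrum B := ⟨Q, inferInstance⟩
  have hle : t.map (algebraMap A B) ≤ Q := Ideal.map_le_iff_le_comap.2 (Q.over_def t).le
  have hlt : P < P' := lt_of_le_of_ne hle fun e => h (congrArg PrimeSpectrum.asIdeal e).symm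
  have hp : PrimeSpectrum.comap (algebraMap A B) P = PrimeSpectrum.comap (algebraMap A B) P' :=
    PrimeSpectrum.ext ((Ideal.over_def (t.map (algebraMap A B)) t).symm.trans (Q.over_def t))
  obtain ⟨n', hn'⟩ := DimFormulaLib.exists_nat_trdeg_quotient_pair (A := A) P'
  have h2 : tr A Q = n' := hn'
  have := DimFormulaLib.trdeg_lt_of_lt_in_fibre' hlt hp e n' (tr_map hsm hirr t) hn'
  rw [h2]
  exact_mod_cast this

include hsm hirr in
theorem tr_le (Q : Ideal B) [Q.IsPrime] : tr A Q ≤ e := by
  by_cases h : Q = (Q.under A).map (algebraMap A B)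
  · haveI : ((Q.under A).map (algebraMap A B)).IsPrime := h ▸ inferInstance
    exact (show tr A Q = tr A ((Q.under A).map (algebraMap A B)) by congr 1).trans_le (tr_map hsm hirr _).le
  · exact (tr_lt hsm hirr (Q.under A) Q h).le

end Smooth

end Groth.Agent.GenRankLib
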