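import Groth.Agent.GenFreeLocus.Functor
import Groth.Agent.GenFreeLocus.DimLT
import Groth.Agent.DimFormulaLib.Misc
import Groth.Agent.DimFormulaLib.FibreComp
import Groth.Agent.DevissLib.Step
import Groth.Agent.ASp.TrdegChart
import Groth.Agent.S9407
import Groth.Agent.S2768

/-!
# Flatness in dimensions at least `d` for a smooth morphism of relative dimension `d`
-/

set_option autoImplicit false
set_option linter.style.haveILetI false
set_option backward.isDefEq.respectTransparency false
set_option backward.defeqAttrib.useBackward true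

universe u

open CategoryTheory CategoryTheory.Limits AlgebraicGeometry TopologicalSpace Opposite
open Groth.Agent.PullbackMod Groth.Agent.GenFreeLocus

namespace Groth.Agent.GenRank

/-- In a smooth algebra the maximal ideal at a prime minimal in its fibre is generated from the base. -/
theorem map_under_eq_maximalIdeal {A B : Type u} [CommRing A] [CommRing B] [Algebra A B] [Algebra.Smooth A B]
    (P : Ideal B) [P.IsPrime] (hP : MinInFibre A P) (L : Type u) [CommRing L] [Algebra B L] [Algebra A L]
    [IsScalarTower A B L] [IsLocalization.AtPrime L P] [IsLocalRing L] :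
    (P.under A).map (algebraMap A L) = IsLocalRing.maximalIdeal L := by
  set t := P.under A with ht
  have hred : IsReduced (TensorProduct A (A ⧸ t) B) := S9407.result (A ⧸ t) _
  have hrad : (t.map (algebraMap A B)).IsRadical := by
    rw [Ideal.isRadical_iff_quotient_reduced]
    exact isReduced_of_injective _ ((Algebra.TensorProduct.comm A _ _).trans
      ((Algebra.TensorProduct.quotIdealMapEquivTensorQuot B t).symm.restrictScalars A)).symm.injective
  rw [IsScalarTower.algebraMap_eq A B L, ← Ideal.map_map, ← hrad.radical,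
    IsLocalization.map_radical P.primeCompl]
  refine le_antisymm ?_ ?_
  · refine ((IsLocalRing.maximalIdeal.isMaximal L).isPrime.radical_le_iff).2 (Ideal.map_le_iff_le_comap.2 ?_)
    exact (Ideal.map_le_iff_le_comap.2 le_rfl).trans (IsLocalization.AtPrime.under_maximalIdeal L P).ge
  · rw [Ideal.radical_eq_sInf]
    refine le_sInf fun J ⟨hJ, hJp⟩ => ?_
    haveI := hJp
    have hle : J.under B ≤ P := by
      exact (Ideal.comap_mono (IsLocalRing.le_maximalIdeal hJp.ne_top)).trans
        (IsLocalization.AtPrime.under_maximalIdeal L P).le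
    have heq : J.under B = P := hP.2 _ inferInstance hle (le_antisymm (Ideal.comap_mono hle)
      (Ideal.map_le_iff_le_comap.1 (Ideal.map_le_iff_le_comap.1 hJ)))
    rw [← IsLocalization.AtPrime.map_eq_maximalIdeal P L]
    refine Ideal.map_le_iff_le_comap.2 ?_
    exact heq.ge

/-- A finitely presented module flat over the base is free when the maximal ideal comes from the base. -/
theorem free_of_flat {A L : Type u} [CommRing A] [CommRing L] [IsLocalRing L] [Algebra A L] (t : Ideal A)
    (ht : t.map (algebraMap A L) = IsLocalRing.maximalIdeal L) (N : Type u) [AddCommGroup N] [Module L N]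
    [Module A N] [IsScalarTower A L N] [Module.Flat A N] [Module.FinitePresentation L N] :
    ∃ p, Nonempty (N ≃ₗ[L] (Fin p → L)) := by
  classical
  obtain ⟨s, hscard, hs⟩ : ∃ s : Finset N, (s.card = (⊤ : Submodule L N).spanFinrank) ∧
      Submodule.span L (s : Set N) = ⊤ := by
    exact Submodule.FG.exists_span_finset_card_eq_spanFinrank (Module.Finite.fg_top (R := L) (M := N))
  let p := s.card
  let m : Fin p → N := fun i => (s.equivFin.symm i : N)
  have hm : Submodule.span L (Set.range m) = ⊤ := by
    rw [← hs]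
    congr 1
    ext x
    exact ⟨fun ⟨i, hi⟩ => hi ▸ (s.equivFin.symm i).2, fun hx => ⟨s.equivFin ⟨x, hx⟩, by simp [m]⟩⟩
  let g : (Fin p → L) →ₗ[L] N := Fintype.linearCombination L m
  have hg : Function.Surjective g := LinearMap.range_eq_top.1 (by
    rw [Fintype.range_linearCombination, hm])
  have hK : LinearMap.ker g = ⊥ := by
    refine Submodule.eq_bot_of_le_smul_of_le_jacobson_bot (t.map (algebraMap A L)) _
      (Module.FinitePresentation.fg_ker g hg) (fun x hx => ?_)
      (ht.le.trans (IsLocalRing.maximalIdeal_le_jacobson _))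
    refine DevissLib.mem_smul_ker t g hg hx ?_
    rw [ht, pi_eq_sum_univ' x]
    refine Submodule.sum_mem _ fun i _ => Submodule.smul_mem_smul ?_ Submodule.mem_top
    by_contra hi
    -- a relation with a unit coefficient contradicts minimality
    have hu : IsUnit (x i) := IsLocalRing.notMem_maximalIdeal.1 hi
    have hlt : Submodule.span L ((s.erase (m i)) : Set N) = ⊤ := by
      refine eq_top_iff.2 (hm ▸ Submodule.span_le.2 ?_)
      rintro _ ⟨j, rfl⟩
      by_cases hj : j = i
      · subst hj
        have h0 : ∑ k, x k • m k = 0 := hx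
        rw [← Finset.add_sum_erase _ _ (Finset.mem_univ j), add_eq_zero_iff_eq_neg] at h0
        refine (Submodule.smul_mem_iff_of_isUnit _ hu).1 (h0 ▸ Submodule.neg_mem _ (Submodule.sum_mem _ fun k hk => ?_))
        refine Submodule.smul_mem _ _ (Submodule.subset_span (Finset.mem_erase.2 ⟨?_, (s.equivFin.symm k).2⟩))
        intro e
        exact (Finset.mem_erase.1 hk).1 (s.equivFin.symm.injective (Subtype.ext e))
      · refine Submodule.subset_span (Finset.mem_erase.2 ⟨?_, (s.equivFin.symm j).2⟩)
        exact fun e => hj (s.equivFin.symm.injective (Subtype.ext e))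
    have h1 := Submodule.spanFinrank_span_le_ncard_of_finite (R := L) (s.erase (m i)).finite_toSet
    rw [hlt, Set.ncard_coe_finset] at h1
    have h2 : (s.erase (m i)).card < s.card := Finset.card_erase_lt_of_mem (s.equivFin.symm i).2
    omega
  exact ⟨p, ⟨(LinearEquiv.ofBijective g ⟨LinearMap.ker_eq_bot.1 hK, hg⟩).symm⟩⟩

variable {X T : Scheme.{u}} (q : X ⟶ T) (G : X.Modules) [Coh.IsQCoh G]

omit [Coh.IsQCoh G] in
theorem flatAt_of_freeAt [Flat q] {p : ℕ} (x : X) (h : FreeAt p G x) : FlatMod.IsFlatOverAt q G x := by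
  letI := FlatMod.moduleStalkOver q G x
  letI := (q.stalkMap x).hom.toAlgebra
  haveI : IsScalarTower (T.presheaf.stalk (q x)) (X.presheaf.stalk x) (G.presheaf.stalk x) :=
    .of_algebraMap_smul fun _ _ => rfl
  haveI : Module.Flat (T.presheaf.stalk (q x)) (X.presheaf.stalk x) := Flat.stalkMap q x
  obtain ⟨e⟩ := h
  haveI : Module.Flat (X.presheaf.stalk x) (G.presheaf.stalk x) := Module.Flat.of_linearEquiv e
  exact Module.Flat.trans (T.presheaf.stalk (q x)) (X.presheaf.stalk x) (G.presheaf.stalk x)

/-- A module of finite presentation flat at the generic point of a fibre is free there. -/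
theorem freeAt_of_flatAt [Smooth q] (hG : CohB1.IsFP G) (η : X) (hη : FlatFun.IsGenericPtOfFibre q η)
    (h : FlatMod.IsFlatOverAt q G η) : ∃ p, FreeAt p G η := by
  obtain ⟨_, ⟨V : T.Opens, (hV : IsAffineOpen V), rfl⟩, hxV, -⟩ :=
    T.isBasis_affineOpens.exists_subset_of_mem_open (Set.mem_univ (q η)) isOpen_univ
  obtain ⟨_, ⟨W : X.Opens, (hW : IsAffineOpen W), rfl⟩, hxW, hWV⟩ :=
    X.isBasis_affineOpens.exists_subset_of_mem_open (a := η) (u := ↑(q ⁻¹ᵁ V)) hxV (q ⁻¹ᵁ V).2
  letI : Algebra Γ(T, V) Γ(X, W) := (q.appLE V W hWV).hom.toAlgebra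
  haveI : Algebra.Smooth Γ(T, V) Γ(X, W) := by
    have h : (q.appLE V W hWV).hom.Smooth :=
      HasRingHomProperty.appLE @Smooth q inferInstance ⟨V, hV⟩ ⟨W, hW⟩ hWV
    exact h
  have hsq : ∀ Q : PrimeSpectrum Γ(X, W),
      hV.fromSpec (PrimeSpectrum.comap (algebraMap Γ(T, V) Γ(X, W)) Q) = q (hW.fromSpec Q) := fun Q =>
    (congrArg (fun φ => φ Q) (hV.SpecMap_appLE_fromSpec q hW hWV) :)
  let P := hW.primeIdealOf ⟨η, hxW⟩
  have hPη : hW.fromSpec P = η := hW.fromSpec_primeIdealOf ⟨η, hxW⟩
  have hmin : MinInFibre Γ(T, V) P.asIdeal := ⟨P.2, fun Q hQ hle hc => by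
    let Q' : PrimeSpectrum Γ(X, W) := ⟨Q, hQ⟩
    have h1 : hW.fromSpec Q' ⤳ η := hPη ▸
      ((PrimeSpectrum.le_iff_specializes Q' P).1 hle).map hW.fromSpec.continuous
    have h2 : q (hW.fromSpec Q') = q η := by
      rw [← hPη, ← hsq, ← hsq]
      exact congrArg hV.fromSpec (PrimeSpectrum.ext hc)
    have h3 : hW.fromSpec Q' = hW.fromSpec P := by
      rw [hPη]
      exact ((hη _ h2).antisymm h1).eq.symm
    exact congrArg PrimeSpectrum.asIdeal (hW.fromSpec.isEmbedding.injective h3)⟩
  letI := Module.compHom Γ(G, W) (q.appLE V W hWV).hom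
  haveI : IsScalarTower Γ(T, V) Γ(X, W) Γ(G, W) := .of_algebraMap_smul fun _ _ => rfl
  letI := Module.compHom (G.presheaf.stalk η) (X.presheaf.germ W η hxW).hom
  letI : Algebra Γ(X, W) (X.presheaf.stalk η) :=
    TopCat.Presheaf.algebra_section_stalk X.presheaf ⟨η, hxW⟩
  haveI := hW.isLocalization_stalk ⟨η, hxW⟩
  haveI : IsScalarTower Γ(X, W) (X.presheaf.stalk η) (G.presheaf.stalk η) :=
    .of_algebraMap_smul fun _ _ => rfl
  letI : Algebra Γ(T, V) (X.presheaf.stalk η) :=
    ((algebraMap Γ(X, W) (X.presheaf.stalk η)).comp (algebraMap Γ(T, V) Γ(X, W))).toAlgebra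
  haveI : IsScalarTower Γ(T, V) Γ(X, W) (X.presheaf.stalk η) := .of_algebraMap_eq fun _ => rfl
  letI := Module.compHom (G.presheaf.stalk η) (algebraMap Γ(T, V) (X.presheaf.stalk η))
  haveI : IsScalarTower Γ(T, V) (X.presheaf.stalk η) (G.presheaf.stalk η) :=
    .of_algebraMap_smul fun _ _ => rfl
  haveI : IsScalarTower Γ(T, V) Γ(X, W) (G.presheaf.stalk η) := .of_algebraMap_smul fun _ _ => rfl
  haveI := FlatLocus.isLocalizedModule_germL G hW η hxW
  haveI := (FlatLocus.isFlatOverAt_iff q G hV hW hWV η hxW).1 h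
  haveI : Module.Flat Γ(T, V) (G.presheaf.stalk η) := Module.Flat.of_linearEquiv
    (((IsLocalizedModule.iso P.asIdeal.primeCompl (FlatLocus.germL G W η hxW)).symm).restrictScalars Γ(T, V))
  haveI := finitePresentation_stalk_of_isFP hG η
  exact free_of_flat (P.asIdeal.under Γ(T, V))
    (map_under_eq_maximalIdeal P.asIdeal hmin (X.presheaf.stalk η)) (G.presheaf.stalk η)

/-- The residue field of the generic point of a fibre has the largest transcendence degree. -/
theorem resTrdeg_generic (d : ℕ) [SmoothOfRelativeDimension d q] (η : X) (hη : FlatFun.IsGenericPtOfFibre q η) :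
    Dual3.resTrdeg q η = (d : Cardinal.{u}) := by
  haveI : Smooth q := SmoothOfRelativeDimension.smooth d q
  obtain ⟨a, t, ha, ht, hloc⟩ := ASp.exists_fibre_dims q η
  rw [DimFormulaLib.fibre_stalk_dim_zero q η fun x' hx hsp => ((hη x' hx).antisymm hsp).eq.symm] at ha
  rw [S2768.result d q η] at hloc
  have ha' : (0 : ℕ) = a := by exact_mod_cast ha
  have ht' : d = a + t := by exact_mod_cast hloc
  rw [ht, ← ha', zero_add] at *
  rw [ht']

theorem resTrdeg_lt_of_not_generic (d : ℕ) [SmoothOfRelativeDimension d q] [GeometricallyIrreducible q]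
    (x : X) (hx : ¬ FlatFun.IsGenericPtOfFibre q x) : Dual3.resTrdeg q x < (d : Cardinal.{u}) := by
  haveI : Smooth q := SmoothOfRelativeDimension.smooth d q
  obtain ⟨η, hqη, hη⟩ := exists_genericPt q (q x)
  exact (DimFormulaLib.trdeg_lt_of_specializes q η x (hη x hqη.symm) (fun e => hx (e ▸ hη)) hqη).trans_le
    (resTrdeg_generic q d η hη).le

theorem flatDimGE_iff (d : ℕ) [SmoothOfRelativeDimension d q] [GeometricallyIrreducible q] (hG : CohB1.IsFP G) :
    FlatFun.DimFibresLT d q {x | ¬ FlatMod.IsFlatOverAt q G x} ↔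
      ∀ η, FlatFun.IsGenericPtOfFibre q η → ∃ p, FreeAt p G η := by
  haveI : Smooth q := SmoothOfRelativeDimension.smooth d q
  constructor
  · intro h η hη
    refine freeAt_of_flatAt q G hG η hη (by_contra fun hn => ?_)
    exact ((h η hn).trans_le (resTrdeg_generic q d η hη).ge).false
  · intro h x hx
    by_cases hg : FlatFun.IsGenericPtOfFibre q x
    · obtain ⟨p, hp⟩ := h x hg
      exact absurd (flatAt_of_freeAt q G x hp) hx
    · exact resTrdeg_lt_of_not_generic q d x hg

end Groth.Agent.GenRank
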