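import Groth.Agent.GenRankLib.Locus
import Mathlib

/-!
# A finite disjoint union of locally closed subschemes of an affine scheme
-/

set_option autoImplicit false
set_option linter.style.haveILetI false
set_option backward.isDefEq.respectTransparency false
set_option backward.isDefEq.respectTransparency.types false
set_option maxHeartbeats 1000000

universe u

open CategoryTheory CategoryTheory.Limits AlgebraicGeometry TopologicalSpace

noncomputable section

namespace Groth.Agent.GenRankLib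

section Mono

variable {σ : Type} {X : σ → Scheme.{u}} {S : Scheme.{u}} (f : ∀ j, X j ⟶ S)

theorem mono_sigmaDesc [∀ j, Mono (f j)] (hd : ∀ j k, j ≠ k → Disjoint (Set.range (f j)) (Set.range (f k))) :
    Mono (Sigma.desc f) := by
  refine ⟨fun {T} g₁ g₂ h => ?_⟩
  let U : σ → T.Opens := fun j => g₁ ⁻¹ᵁ (Sigma.ι X j).opensRange
  have hU : iSup U = ⊤ := by
    refine eq_top_iff.2 fun x _ => ?_
    obtain ⟨j, y, hy⟩ := Scheme.Cover.exists_eq (sigmaOpenCover X) (g₁ x)
    exact Opens.mem_iSup.2 ⟨j, y, hy⟩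
  refine Scheme.Cover.hom_ext (T.openCoverOfIsOpenCover U (IsOpenCover.mk hU)) _ _ fun j => ?_
  show (U j).ι ≫ g₁ = (U j).ι ≫ g₂
  have h1 : Set.range ((U j).ι ≫ g₁) ⊆ Set.range (Sigma.ι X j) := by
    rintro _ ⟨x, rfl⟩
    exact x.2
  have h2 : Set.range ((U j).ι ≫ g₂) ⊆ Set.range (Sigma.ι X j) := by
    rintro _ ⟨x, rfl⟩
    obtain ⟨k, y, hy⟩ := Scheme.Cover.exists_eq (sigmaOpenCover X) (((U j).ι ≫ g₂) x)
    obtain ⟨z, hz⟩ := h1 ⟨x, rfl⟩
    have e : ∀ k y, Sigma.desc f (Sigma.ι X k y) = f k y := fun k y => by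
      rw [← Scheme.Hom.comp_apply, Sigma.ι_desc]
    by_cases hjk : j = k
    · subst hjk; exact ⟨y, hy⟩
    · refine absurd ⟨y, rfl⟩ (Set.disjoint_left.1 (hd j k hjk) ?_)
      refine ⟨z, ?_⟩
      have hx := congrArg (fun φ => ((U j).ι ≫ φ) x) h
      rw [← e, hz, ← e, show (Sigma.ι X k) y = ((U j).ι ≫ g₂) x from hy, ← Scheme.Hom.comp_apply,
        ← Scheme.Hom.comp_apply, Category.assoc, Category.assoc]
      exact hx
  rw [← IsOpenImmersion.lift_fac (Sigma.ι X j) _ h1, ← IsOpenImmersion.lift_fac (Sigma.ι X j) _ h2]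
  congr 1
  rw [← cancel_mono (f j), ← Sigma.ι_desc f j, ← Category.assoc, ← Category.assoc, IsOpenImmersion.lift_fac,
    IsOpenImmersion.lift_fac, Category.assoc, Category.assoc, h]

end Mono

variable {A : Type u} [CommRing A]

/-- Locally on `Spec A'`, one of the strata `V(I p) ∩ D(J p)`, `p ≤ c`. -/
def Cond (I J : ℕ → Ideal A) (c : ℕ) (A' : Type u) [CommRing A'] [Algebra A A'] : Prop :=
  ∀ (t : Ideal A') [t.IsPrime], ∃ p ≤ c, ∃ h, h ∉ t ∧
    (∀ a ∈ I p, ∃ n : ℕ, h ^ n * algebraMap A A' a = 0) ∧ ¬ J p ≤ t.comap (algebraMap A A')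

/-- The disjoint union of the strata represents the condition. -/
theorem exists_rep (I J : ℕ → Ideal A) (c : ℕ) (hI : ∀ p, (I p).FG) (hJ : ∀ p, (J p).FG)
    (hdisj : ∀ p q, p < q → J p ≤ I q) :
    ∃ (Z : Scheme.{u}) (i : Z ⟶ Spec (CommRingCat.of A)),
      Mono i ∧ LocallyOfFinitePresentation i ∧ QuasiCompact i ∧ QuasiSeparated i ∧
      ∀ (A' : Type u) [CommRing A'] [Algebra A A'],
        Cond I J c A' ↔ ∃ k, k ≫ i = Spec.map (CommRingCat.ofHom (algebraMap A A')) := by
  classical
  let q : ∀ p : Fin (c + 1), Spec (CommRingCat.of (A ⧸ I p)) ⟶ Spec (CommRingCat.of A) := fun p =>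
    Spec.map (CommRingCat.ofHom (Ideal.Quotient.mk (I p)))
  let D : ∀ p : Fin (c + 1), (Spec (CommRingCat.of A)).Opens := fun p =>
    ⟨(PrimeSpectrum.zeroLocus (J p : Set A))ᶜ, (PrimeSpectrum.isClosed_zeroLocus _).isOpen_compl⟩
  let U : ∀ p : Fin (c + 1), (Spec (CommRingCat.of (A ⧸ I p))).Opens := fun p => q p ⁻¹ᵁ D p
  let W : Fin (c + 1) → Scheme.{u} := fun p => (U p).toScheme
  let f : ∀ p, W p ⟶ Spec (CommRingCat.of A) := fun p => (U p).ι ≫ q p
  have hq : ∀ p, IsClosedImmersion (q p) := fun p => IsClosedImmersion.spec_of_surjective _ Ideal.Quotient.mk_surjective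
  have hmem : ∀ p (z : W p), (I p : Ideal A) ≤ (f p z).asIdeal ∧ ¬ J p ≤ (f p z).asIdeal := fun p z =>
    ⟨fun a ha => by
      show Ideal.Quotient.mk (I p) a ∈ (z.1 : PrimeSpectrum (A ⧸ I p)).asIdeal
      rw [Ideal.Quotient.eq_zero_iff_mem.2 ha]
      exact zero_mem _, z.2⟩
  have hd : ∀ j k, j ≠ k → Disjoint (Set.range (f j)) (Set.range (f k)) := by
    have key : ∀ j k : Fin (c + 1), j < k → Disjoint (Set.range (f j)) (Set.range (f k)) := fun j k hjk => by
      rw [Set.disjoint_left]
      rintro _ ⟨a, rfl⟩ ⟨b, hb⟩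
      exact (hmem j a).2 (hb ▸ (hdisj j k hjk).trans (hmem k b).1)
    intro j k hjk
    rcases lt_or_gt_of_ne hjk with h | h
    exacts [key j k h, (key k j h).symm]
  haveI : ∀ p, Mono (f p) := fun p => by haveI := hq p; infer_instance
  have hlfp : ∀ p, LocallyOfFinitePresentation (f p) := fun p => by
    haveI : Algebra.FinitePresentation A (A ⧸ I p) := Algebra.FinitePresentation.quotient (hI p)
    haveI : LocallyOfFinitePresentation (q p) := (HasRingHomProperty.Spec_iff (P := @LocallyOfFinitePresentation)).2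
      (RingHom.finitePresentation_algebraMap.2 ‹_› : (algebraMap A (A ⧸ I p)).FinitePresentation)
    infer_instance
  have hWc : ∀ p, CompactSpace (W p) := fun p => by
    obtain ⟨G, hG⟩ := hJ p
    refine isCompact_iff_compactSpace.1 ((PrimeSpectrum.isCompact_isOpen_iff (R := A ⧸ I p)).2
      ⟨G.image (Ideal.Quotient.mk (I p)), ?_⟩).1
    ext z
    show (¬ ((G.image (Ideal.Quotient.mk (I p)) : Finset _) : Set (A ⧸ I p)) ⊆ (z.asIdeal : Set (A ⧸ I p))) ↔
      ¬ ((J p : Set A) ⊆ ((q p z).asIdeal : Set A))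
    rw [Finset.coe_image, Set.image_subset_iff]
    refine not_congr ?_
    rw [SetLike.coe_subset_coe, ← hG]
    exact (Submodule.span_le (R := A) (p := (q p z).asIdeal) (s := (G : Set A))).symm
  let i := Sigma.desc f
  haveI : Mono i := mono_sigmaDesc f hd
  haveI : CompactSpace ↥(∐ W) := by
    haveI : ∀ x, CompactSpace ↥((sigmaOpenCover W).X x) := hWc
    haveI : Finite (sigmaOpenCover W).I₀ := inferInstanceAs (Finite (Fin (c + 1)))
    exact (sigmaOpenCover W).compactSpace
  refine ⟨∐ W, i, inferInstance, IsZariskiLocalAtSource.sigmaDesc hlfp,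
    (quasiCompact_iff_compactSpace i).2 inferInstance, inferInstance, fun A' _ _ => ?_⟩
  let a' := Spec.map (CommRingCat.ofHom (algebraMap A A'))
  constructor
  · intro hcond
    have hloc : ∀ t : PrimeSpectrum A', ∃ h, h ∉ t.asIdeal ∧
        ∃ k, k ≫ i = Spec.map (CommRingCat.ofHom (algebraMap A (Localization.Away h))) := by
      intro t
      obtain ⟨p, hp, h, hht, hIp, hJp⟩ := hcond t.asIdeal
      obtain ⟨j, hj, hjt⟩ := SetLike.not_le_iff_exists.1 hJp
      let h' := h * algebraMap A A' j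
      refine ⟨h', fun hm => (t.2.mem_or_mem hm).elim hht hjt, ?_⟩
      let p' : Fin (c + 1) := ⟨p, by omega⟩
      let l : A ⧸ I p →+* Localization.Away h' := Ideal.Quotient.lift _ (algebraMap A _) fun a ha => by
        obtain ⟨n, hn⟩ := hIp a ha
        rw [IsScalarTower.algebraMap_apply A A' (Localization.Away h')]
        exact (IsLocalization.map_eq_zero_iff (Submonoid.powers h') _ _).2 ⟨⟨_, n, rfl⟩, by
          show h' ^ n * _ = 0
          rw [mul_pow, mul_right_comm, hn, zero_mul]⟩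
      have hl : Spec.map (CommRingCat.ofHom l) ≫ q p' =
          Spec.map (CommRingCat.ofHom (algebraMap A (Localization.Away h'))) := by
        rw [← Spec.map_comp]; rfl
      have hr : Set.range (Spec.map (CommRingCat.ofHom l)) ⊆ Set.range (U p').ι := by
        rw [Scheme.Opens.range_ι]
        rintro _ ⟨z, rfl⟩
        refine fun hz => z.2.ne_top (Ideal.eq_top_of_isUnit_mem _ (hz hj) ?_)
        show IsUnit (algebraMap A (Localization.Away h') j)
        rw [IsScalarTower.algebraMap_apply A A' (Localization.Away h')]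
        exact isUnit_of_mul_isUnit_right (by rw [← map_mul]; exact IsLocalization.Away.algebraMap_isUnit h')
      exact ⟨IsOpenImmersion.lift (U p').ι _ hr ≫ Sigma.ι W p', by
        rw [Category.assoc, Sigma.ι_desc, ← Category.assoc, IsOpenImmersion.lift_fac, hl]⟩
    choose h hh k hk using hloc
    let 𝒰 := Scheme.affineOpenCoverOfSpanRangeEqTop (R := CommRingCat.of A') h (by
      by_contra hne
      obtain ⟨t, ht, hle⟩ := Ideal.exists_le_maximal _ hne
      exact hh ⟨t, ht.isPrime⟩ (hle (Ideal.subset_span ⟨_, rfl⟩)))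
    have hk' : ∀ j, k j ≫ i = 𝒰.openCover.f j ≫ a' := fun j => by
      show k j ≫ i = Spec.map _ ≫ a'
      rw [hk, ← Spec.map_comp, ← CommRingCat.ofHom_comp, ← IsScalarTower.algebraMap_eq]
    refine ⟨𝒰.openCover.glueMorphisms k fun x y => ?_, Scheme.Cover.hom_ext 𝒰.openCover _ _ fun j => ?_⟩
    · rw [← cancel_mono i, Category.assoc, Category.assoc, hk', hk', pullback.condition_assoc]
    · rw [← Category.assoc, Scheme.Cover.ι_glueMorphisms, hk']
  · rintro ⟨k, hk⟩ t ht
    let z : Spec (CommRingCat.of A') := ⟨t, ht⟩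
    obtain ⟨(p : Fin (c + 1)), w, hw⟩ := Scheme.Cover.exists_eq (sigmaOpenCover W) (k z)
    obtain ⟨_, ⟨h, rfl⟩, hzh, hsub⟩ := PrimeSpectrum.isTopologicalBasis_basic_opens.exists_subset_of_mem_open
      (a := z) (show z ∈ ((k ⁻¹ᵁ (Sigma.ι W p).opensRange : (Spec (CommRingCat.of A')).Opens) : Set _) from
        ⟨w, hw⟩) (k ⁻¹ᵁ (Sigma.ι W p).opensRange).2
    refine ⟨p, Nat.lt_succ_iff.1 p.2, h, hzh, fun a ha => ?_, ?_⟩
    · let j := Spec.map (CommRingCat.ofHom (algebraMap A' (Localization.Away h)))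
      have hr : Set.range (j ≫ k) ⊆ Set.range (Sigma.ι W p) := by
        rintro _ ⟨x, rfl⟩
        exact hsub (show j x ∈ PrimeSpectrum.basicOpen h from fun hm => x.2.ne_top
          (Ideal.eq_top_of_isUnit_mem _ hm (IsLocalization.Away.algebraMap_isUnit h)))
      let l := IsOpenImmersion.lift (Sigma.ι W p) _ hr ≫ (U p).ι
      obtain ⟨φ, hφ⟩ := Spec.map_surjective l
      have e : CommRingCat.ofHom (Ideal.Quotient.mk (I p)) ≫ φ =
          CommRingCat.ofHom (algebraMap A (Localization.Away h)) := by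
        apply Spec.map_injective
        rw [Spec.map_comp, hφ]
        show (_ ≫ (U p).ι) ≫ q p = _
        rw [Category.assoc, show (U p).ι ≫ q p = Sigma.ι W p ≫ i from (Sigma.ι_desc f p).symm, ← Category.assoc,
          IsOpenImmersion.lift_fac, Category.assoc, hk, ← Spec.map_comp, ← CommRingCat.ofHom_comp,
          ← IsScalarTower.algebraMap_eq]
      have h0 : algebraMap A (Localization.Away h) a = 0 := by
        rw [show algebraMap A (Localization.Away h) a = φ (Ideal.Quotient.mk (I p) a) from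
          (ConcreteCategory.congr_hom e a).symm, Ideal.Quotient.eq_zero_iff_mem.2 ha, map_zero]
      rw [IsScalarTower.algebraMap_apply A A' (Localization.Away h)] at h0
      obtain ⟨⟨_, n, rfl⟩, hn⟩ := (IsLocalization.map_eq_zero_iff (Submonoid.powers h) _ _).1 h0
      exact ⟨n, hn⟩
    · have h1 : (k ≫ i) z = f p w := by
        rw [Scheme.Hom.comp_apply, ← hw, ← Scheme.Hom.comp_apply]
        exact congrArg (fun φ => φ w) (Sigma.ι_desc f p)
      rw [hk] at h1
      have := (hmem p w).2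
      rw [← h1] at this
      exact this

theorem fitt_mono {B M : Type u} [CommRing B] [AddCommGroup M] [Module B M] [Module.Finite B M] {p q : ℕ} (h : p ≤ q) :
    Fitt.ideal B M p ≤ Fitt.ideal B M q := by
  classical
  obtain ⟨n, x, hx⟩ := Module.Finite.exists_fin (R := B) (M := M)
  rw [FittLib.ideal_eq_D x hx, FittLib.ideal_eq_D x hx, FittLib.D, Ideal.span_le]
  rintro _ ⟨a, T, hT, ha, rfl⟩
  exact FittLib.det_mem_D T (by omega) ha

/-- For a smooth algebra with geometrically irreducible fibres of dimension `d`, flatness in dimensions at least `d`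
is representable by a monomorphism of finite presentation. -/
theorem exists_rep_flatInDimGE {B : Type u} [CommRing B] [Algebra A B] {d : ℕ} (hsm : FlatCA.SmoothRelDim d A B)
    (hirr : FlatCA.GeomIrredFibres A B) (M : Type u) [AddCommGroup M] [Module B M] [Module.FinitePresentation B M] :
    ∃ (Z : Scheme.{u}) (i : Z ⟶ Spec (CommRingCat.of A)),
      Mono i ∧ LocallyOfFinitePresentation i ∧ QuasiCompact i ∧ QuasiSeparated i ∧
      ∀ (A' B' M' : Type u) [CommRing A'] [CommRing B'] [Algebra A A'] [Algebra B B'] [Algebra A' B'] [Algebra A B']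
        [IsScalarTower A B B'] [IsScalarTower A A' B'] [Algebra.IsPushout A B A' B']
        [AddCommGroup M'] [Module B' M'] [Module B M'] [IsScalarTower B B' M'] [Module A' M'] [IsScalarTower A' B' M']
        (φ : M →ₗ[B] M'), IsBaseChange B' φ →
        (FlatCA.FlatInDimGE d A' B' M' ↔ ∃ k, k ≫ i = Spec.map (CommRingCat.ofHom (algebraMap A A'))) := by
  letI : Module A M := Module.compHom M (algebraMap A B)
  haveI : IsScalarTower A B M := IsScalarTower.of_algebraMap_smul fun _ _ => rfl
  haveI := DevissLib.smooth_of_smoothRelDim hsm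
  haveI := DevissLib.projective_of_smooth hirr
  obtain ⟨s, hs⟩ := (Module.projective_def (R := A) (P := B)).1 inferInstance
  obtain ⟨c, x, hx⟩ := Module.Finite.exists_fin (R := B) (M := M)
  have hc : ∀ (P : Ideal B) [P.IsPrime], Module.finrank P.ResidueField (TensorProduct B P.ResidueField M) ≤ c :=
    fun P _ => (FittLib.not_le_iff_finrank c P).1 fun hle =>
      ‹P.IsPrime›.ne_top (top_le_iff.1 ((FittLib.ideal_eq_top x hx le_rfl).ge.trans hle))
  obtain ⟨Z, i, h1, h2, h3, h4, h5⟩ := exists_rep (Iloc M s) (Jloc M s) c (fun p => content_fg s hs _ (fprev_fg M p))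
    (fun p => content_fg s hs _ (fitt_fg M p)) (fun p q hpq => by
      refine Ideal.span_mono ?_
      rintro a ⟨b, hb, y, rfl⟩
      refine ⟨b, ?_, y, rfl⟩
      rw [Fprev, if_neg (by omega)]
      exact fitt_mono (by omega) hb)
  exact ⟨Z, i, h1, h2, h3, h4, fun A' B' M' _ _ _ _ _ _ _ _ _ _ _ _ _ _ _ φ hφ =>
    (flatInDimGE_iff_strata M hsm hirr s hs c hc A' B' M' φ hφ).trans (h5 A')⟩

end Groth.Agent.GenRankLib
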