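import Groth.Agent.GenRankLib.Fibre
import Groth.Agent.DevissLib.SpreadChain
import Groth.Agent.DevBCLib.Alpha

/-!
# Left inverses up to an element outside the generic points of the fibres, and flatness of cokernels
-/

set_option autoImplicit false
set_option linter.style.haveILetI false
set_option backward.isDefEq.respectTransparency false
set_option backward.isDefEq.respectTransparency.types false
set_option maxHeartbeats 1000000

universe u

open TensorProduct

noncomputable section

namespace Groth.Agent.GenRankLib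

open DevissLib (liesOver_map projective_of_smooth fibre_domain mem_smul_ker)

variable {R B : Type u} [CommRing R] [CommRing B] [Algebra R B] [Algebra.Smooth R B]

/-- An element nonzero in the fibres over `D(g)` kills only `g`-torsion. -/
theorem exists_pow_smul_eq_zero (h : FlatCA.GeomIrredFibres R B) {t : B} {g : R}
    (ht : ∀ (p : Ideal R) [p.IsPrime], g ∉ p → t ∉ p.map (algebraMap R B)) (r : ℕ)
    {K : Type u} [AddCommGroup K] [Module R K] {z : (Fin r → B) ⊗[R] K} (hz : t • z = 0) :
    ∃ n : ℕ, g ^ n • z = 0 := by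
  let L := Localization.Away g
  let φ := AlgebraTensorModule.lTensor B (Fin r → B) (TensorProduct.mk R L K 1)
  have h0 : φ z = 0 := DevissLib.eq_zero_of_smul h (t := t) (f := g)
    (fun p _ hgp h1 => ht p hgp ((mem_map_iff h p t).2 h1)) r (DevissLib.isUnit_end_tensor g K)
    (by rw [← map_smul, hz, map_zero])
  let ψ := TensorProduct.leftComm R (Fin r → B) L K
  have hψ : ∀ w, ψ (φ w) = TensorProduct.mk R L ((Fin r → B) ⊗[R] K) 1 w := fun w => by
    induction w using TensorProduct.induction_on with
    | zero => simp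
    | tmul v x => rfl
    | add a b ha hb => simp only [map_add, ha, hb]
  haveI : IsLocalizedModule (Submonoid.powers g) (TensorProduct.mk R L ((Fin r → B) ⊗[R] K) 1) :=
    (isLocalizedModule_iff_isBaseChange (Submonoid.powers g) L _).2 (TensorProduct.isBaseChange R _ L)
  obtain ⟨⟨_, n, rfl⟩, hn⟩ := (IsLocalizedModule.eq_zero_iff (Submonoid.powers g)
    (TensorProduct.mk R L ((Fin r → B) ⊗[R] K) 1) (m := z)).1 (by rw [← hψ, h0, map_zero])
  exact ⟨n, hn⟩

variable {M : Type u} [AddCommGroup M] [Module B M] [Module R M] [IsScalarTower R B M] [Module.FinitePresentation B M]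

/-- A map from a free module bijective at the generic point of a fibre, with target flat there, has a left inverse
up to an element outside that point. -/
theorem exists_leftInv (h : FlatCA.GeomIrredFibres R B) (rr : Ideal R) [rr.IsPrime] [(rr.map (algebraMap R B)).IsPrime]
    {r : ℕ} (α : (Fin r → B) →ₗ[B] M)
    (hα : Function.Bijective (α.baseChange (rr.map (algebraMap R B)).ResidueField))
    (hflat : FlatCA.FlatAt R (rr.map (algebraMap R B)) M) :
    ∃ t : B, t ∉ rr.map (algebraMap R B) ∧ ∃ β : M →ₗ[B] (Fin r → B),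
      ∀ v, β (α v) = t • v := by
  classical
  haveI hBflat : Module.Flat R B := by
    haveI := projective_of_smooth h
    infer_instance
  let P := rr.map (algebraMap R B)
  haveI : P.LiesOver rr := liesOver_map h rr
  let BP := Localization.AtPrime P
  haveI hlocP : ∀ (X : Type u) [AddCommGroup X] [Module B X],
      IsLocalizedModule P.primeCompl (TensorProduct.mk B BP X 1) := fun X _ _ =>
    (isLocalizedModule_iff_isBaseChange P.primeCompl BP _).2 (TensorProduct.isBaseChange B X BP)
  haveI : Module.Flat R (LocalizedModule P.primeCompl M) := hflat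
  haveI : Module.Flat R (BP ⊗[B] M) :=
    FlatLocus.flat_localized_of_le P.primeCompl P.primeCompl le_rfl (LocalizedModule.mkLinearMap P.primeCompl M)
      (TensorProduct.mk B BP M 1)
  let αP := α.baseChange BP
  have hsurj : Function.Surjective αP := by
    have hns : (⟨P, inferInstance⟩ : PrimeSpectrum B) ∉ Module.support B (M ⧸ LinearMap.range α) := fun hs => by
      haveI : Nontrivial (P.ResidueField ⊗[B] (M ⧸ LinearMap.range α)) :=
        (Module.mem_support_iff_nontrivial_residueField_tensorProduct ⟨P, inferInstance⟩).1 hs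
      haveI : Subsingleton (P.ResidueField ⊗[B] (M ⧸ LinearMap.range α)) := subsingleton_of_forall_eq 0 fun x => by
        obtain ⟨y, rfl⟩ := LinearMap.lTensor_surjective P.ResidueField (LinearMap.range α).mkQ_surjective x
        obtain ⟨z, rfl⟩ := hα.2 y
        rw [LinearMap.baseChange_eq_ltensor, ← LinearMap.lTensor_comp_apply, LinearMap.range_mkQ_comp,
          LinearMap.lTensor_zero, LinearMap.zero_apply]
      exact false_of_nontrivial_of_subsingleton (P.ResidueField ⊗[B] (M ⧸ LinearMap.range α))
    rw [Module.mem_support_iff_of_finite, SetLike.not_le_iff_exists] at hns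
    obtain ⟨c, hc, hcP⟩ := hns
    intro y
    obtain ⟨⟨m, s⟩, hm⟩ := IsLocalizedModule.surj P.primeCompl (TensorProduct.mk B BP M 1) y
    obtain ⟨v, hv⟩ : c • m ∈ LinearMap.range α := by
      rw [← Submodule.Quotient.mk_eq_zero, Submodule.Quotient.mk_smul]
      exact Module.mem_annihilator.1 hc _
    have hu : IsUnit (algebraMap B BP (c * s)) :=
      IsLocalization.map_units BP (⟨c * s, P.primeCompl.mul_mem hcP s.2⟩ : P.primeCompl)
    refine ⟨hu.unit⁻¹ • ((1 : BP) ⊗ₜ[B] v), ?_⟩
    rw [Units.smul_def, map_smul, ← Units.smul_def, inv_smul_eq_iff, LinearMap.baseChange_tmul, hv,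
      Units.smul_def, IsUnit.unit_spec, algebraMap_smul, mul_smul, TensorProduct.tmul_smul]
    exact congrArg (c • ·) hm.symm
  let J := rr.map (algebraMap R BP)
  have hJP : J = P.map (algebraMap B BP) := by rw [Ideal.map_map, ← IsScalarTower.algebraMap_eq]
  have hJ : J ≤ IsLocalRing.maximalIdeal BP := by
    rw [hJP]
    exact (Localization.AtPrime.map_eq_maximalIdeal (I := P)).le
  have hinjP : Function.Injective αP := by
    rw [← LinearMap.ker_eq_bot]
    refine Submodule.eq_bot_of_le_smul_of_le_jacobson_bot J _ (Module.FinitePresentation.fg_ker αP hsurj)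
      (fun x hx => ?_) (hJ.trans (IsLocalRing.maximalIdeal_le_jacobson _))
    have hxJ : x ∈ J • (⊤ : Submodule BP (BP ⊗[B] (Fin r → B))) := by
      obtain ⟨⟨v, s⟩, hv⟩ := IsLocalizedModule.surj P.primeCompl (TensorProduct.mk B BP (Fin r → B) 1) x
      have h0 : (1 : BP) ⊗ₜ[B] α v = 0 := by
        rw [← LinearMap.baseChange_tmul]
        show αP (TensorProduct.mk B BP (Fin r → B) 1 v) = 0
        rw [← hv, Submonoid.smul_def, ← algebraMap_smul BP (s : B) x, map_smul, LinearMap.mem_ker.1 hx, smul_zero]
      obtain ⟨c, hc⟩ := (IsLocalizedModule.eq_zero_iff P.primeCompl (TensorProduct.mk B BP M 1)).1 h0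
      have hc0 : algebraMap B P.ResidueField c ≠ 0 := fun e => c.2 (Ideal.algebraMap_residueField_eq_zero.1 e)
      have h1 : ((1 : P.ResidueField) ⊗ₜ[B] v : P.ResidueField ⊗[B] (Fin r → B)) = 0 := by
        apply hα.1
        rw [map_zero, LinearMap.baseChange_tmul]
        refine (smul_eq_zero_iff_right hc0).1 ?_
        rw [algebraMap_smul, ← TensorProduct.tmul_smul, ← Submonoid.smul_def, hc, TensorProduct.tmul_zero]
      have h2 : ∀ i, v i ∈ P := fun i => by
        have := congrArg (fun t => TensorProduct.piScalarRight B B P.ResidueField (Fin r) t i) h1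
        simp only [TensorProduct.piScalarRight_apply, TensorProduct.piScalarRightHom_tmul, map_zero, Pi.zero_apply,
          Algebra.smul_def, mul_one] at this
        exact Ideal.algebraMap_residueField_eq_zero.1 this
      have h3 : (TensorProduct.mk B BP (Fin r → B) 1 v) ∈ J • (⊤ : Submodule BP (BP ⊗[B] (Fin r → B))) := by
        rw [pi_eq_sum_univ' v, map_sum]
        refine sum_mem fun i _ => ?_
        rw [map_smul, ← algebraMap_smul BP (v i)]
        refine Submodule.smul_mem_smul ?_ Submodule.mem_top
        rw [hJP]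
        exact Ideal.mem_map_of_mem _ (h2 i)
      rw [← hv, Submonoid.smul_def, ← algebraMap_smul BP (s : B) x] at h3
      exact (Submodule.smul_mem_iff_of_isUnit _ (IsLocalization.map_units BP s)).1 h3
    exact mem_smul_ker rr αP hsurj (LinearMap.mem_ker.1 hx) hxJ
  -- a one-sided inverse up to an element outside `P`
  let e := LinearEquiv.ofBijective αP ⟨hinjP, hsurj⟩
  obtain ⟨β, s₀, hβ⟩ := Module.FinitePresentation.exists_lift_of_isLocalizedModule P.primeCompl
    (TensorProduct.mk B BP (Fin r → B) 1) ((e.symm.toLinearMap.restrictScalars B) ∘ₗ TensorProduct.mk B BP M 1)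
  obtain ⟨s₁, hs₁⟩ := Module.Finite.exists_smul_of_comp_eq_of_isLocalizedModule P.primeCompl
    (TensorProduct.mk B BP (Fin r → B) 1) (β ∘ₗ α) ((s₀ : B) • LinearMap.id) (LinearMap.ext fun v => by
      have h1 := LinearMap.congr_fun hβ (α v)
      simp only [LinearMap.comp_apply, LinearMap.smul_apply, LinearMap.restrictScalars_apply, LinearEquiv.coe_coe] at h1
      rw [LinearMap.comp_apply, LinearMap.comp_apply, h1, LinearMap.comp_apply, LinearMap.smul_apply, LinearMap.id_apply,
        map_smul, Submonoid.smul_def]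
      congr 1
      rw [show TensorProduct.mk B BP M 1 (α v) = e (TensorProduct.mk B BP (Fin r → B) 1 v) from
        (α.baseChange_tmul (1 : BP) v).symm, LinearEquiv.symm_apply_apply])
  refine ⟨s₁ * s₀, fun hmem => (P.primeCompl.mul_mem s₁.2 s₀.2) hmem, (s₁ : B) • β, fun v => ?_⟩
  have h2 := LinearMap.congr_fun hs₁ v
  simpa [Submonoid.smul_def, mul_smul] using h2

section Step

variable {r : ℕ} (α : (Fin r → B) →ₗ[B] M) {u : B} {β : M →ₗ[B] (Fin r → B)} {g : R}

omit [Module.FinitePresentation B M] in
/-- Along a map with a left inverse up to an element nonzero in the fibres over `D(g)`, flatness of the target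
and of the cokernel agree over `D(g)`. -/
theorem flatAt_coker_iff (h : FlatCA.GeomIrredFibres R B) (hβ : ∀ v, β (α v) = u • v)
    (hu : ∀ (p : Ideal R) [p.IsPrime], g ∉ p → u ∉ p.map (algebraMap R B))
    (Q : Ideal B) [Q.IsPrime] (hQ : algebraMap R B g ∉ Q) :
    FlatCA.FlatAt R Q M ↔ FlatCA.FlatAt R Q (M ⧸ LinearMap.range α) := by
  haveI : Module.Flat R B := by
    haveI := projective_of_smooth h
    infer_instance
  haveI : Module.Flat R (Fin r → B) := by
    classical
    haveI := projective_of_smooth h
    haveI : Module.Projective R (Fin r →₀ B) := Module.Projective.of_equiv (finsuppLequivDFinsupp (ι := Fin r) R).symm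
    haveI : Module.Projective R (Fin r → B) := Module.Projective.of_equiv (Finsupp.linearEquivFunOnFinite R B (Fin r))
    infer_instance
  let q := (LinearMap.range α).mkQ
  let rT : ∀ (X : Type u) [AddCommGroup X] [Module R X], (Fin r → B) ⊗[R] X →ₗ[B] M ⊗[R] X := fun X _ _ =>
    AlgebraTensorModule.rTensor R X α
  let rQ : ∀ (X : Type u) [AddCommGroup X] [Module R X], M ⊗[R] X →ₗ[B] (M ⧸ LinearMap.range α) ⊗[R] X :=
    fun X _ _ => AlgebraTensorModule.rTensor R X q
  have hex : ∀ (X : Type u) [AddCommGroup X] [Module R X], Function.Exact (rT X) (rQ X) := fun X _ _ =>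
    rTensor_exact (f := α.restrictScalars R) (g := q.restrictScalars R) X (LinearMap.exact_map_mkQ_range α)
      (LinearMap.range α).mkQ_surjective
  have hsq : ∀ (X : Type u) [AddCommGroup X] [Module R X], Function.Surjective (rQ X) := fun X _ _ =>
    LinearMap.rTensor_surjective X (g := q.restrictScalars R) (LinearMap.range α).mkQ_surjective
  have hinv : ∀ (X : Type u) [AddCommGroup X] [Module R X] (w : (Fin r → B) ⊗[R] X),
      AlgebraTensorModule.rTensor R X β (rT X w) = u • w := fun X _ _ w => by
    induction w using TensorProduct.induction_on with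
    | zero => simp [rT]
    | tmul v x => simp [rT, hβ, TensorProduct.smul_tmul']
    | add a b ha hb => simp only [map_add, ha, hb, smul_add]
  have hmem : ∀ (n : ℕ) {s : B}, s ∉ Q → s * algebraMap R B g ^ n ∉ Q := fun n s hs hm =>
    (‹Q.IsPrime›.mem_or_mem hm).elim hs fun h' => hQ (‹Q.IsPrime›.mem_of_pow_mem n h')
  have hsc : ∀ {N : Type u} [AddCommGroup N] [Module R N] [Module B N] [IsScalarTower R B N] (n : ℕ) (x : N),
      (algebraMap R B g ^ n) • x = g ^ n • x := fun n x => by rw [← map_pow, algebraMap_smul]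
  rw [FlatAboveLib.flatAt_iff_kernel, FlatAboveLib.flatAt_iff_kernel]
  constructor
  · intro hM X Y _ _ _ _ f hf z hz
    obtain ⟨z, rfl⟩ := hsq X z
    have h1 : rQ Y (f.lTensor M z) = 0 := (FlatAboveLib.lTensor_rTensor_comm q f z).trans hz
    obtain ⟨w, hw⟩ := (hex Y _).1 h1
    let fK := (LinearMap.range f).mkQ
    have h2 : u • fK.lTensor (Fin r → B) w = 0 := by
      rw [← hinv, show rT (Y ⧸ LinearMap.range f) (fK.lTensor (Fin r → B) w) = fK.lTensor M (rT Y w) from
        (FlatAboveLib.lTensor_rTensor_comm α fK w), hw, ← LinearMap.lTensor_comp_apply, LinearMap.range_mkQ_comp,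
        LinearMap.lTensor_zero, LinearMap.zero_apply, map_zero]
    obtain ⟨n, hn⟩ := exists_pow_smul_eq_zero h hu r h2
    obtain ⟨w', hw'⟩ := (lTensor_exact (Fin r → B) (LinearMap.exact_map_mkQ_range f)
      (LinearMap.range f).mkQ_surjective (g ^ n • w)).1 (by rw [map_smul]; exact hn)
    obtain ⟨s, hs, hsz⟩ := hM X Y f hf (g ^ n • z - rT X w') (by
      rw [map_sub, map_smul, ← FlatAboveLib.lTensor_rTensor_comm, hw']
      show g ^ n • f.lTensor M z - rT Y (g ^ n • w) = 0
      rw [LinearMap.map_smul_of_tower, hw, sub_self])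
    refine ⟨s * algebraMap R B g ^ n, hmem n hs, ?_⟩
    rw [mul_smul, hsc]
    have h3 : rQ X (g ^ n • z - rT X w') = g ^ n • rQ X z := by
      rw [map_sub, LinearMap.map_smul_of_tower, (hex X).apply_apply_eq_zero, sub_zero]
    rw [← h3, ← map_smul, hsz, map_zero]
  · intro hC X Y _ _ _ _ f hf z hz
    obtain ⟨s, hs, hsz⟩ := hC X Y f hf (rQ X z) (by
      rw [show f.lTensor (M ⧸ LinearMap.range α) (rQ X z) = rQ Y (f.lTensor M z) from
        (FlatAboveLib.lTensor_rTensor_comm q f z).symm, hz, map_zero])
    obtain ⟨w, hw⟩ := (hex X (s • z)).1 (by rw [map_smul]; exact hsz)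
    have h1 : u • f.lTensor (Fin r → B) w = 0 := by
      rw [← hinv, show rT Y (f.lTensor (Fin r → B) w) = f.lTensor M (rT X w) from
        FlatAboveLib.lTensor_rTensor_comm α f w, hw,
        show f.lTensor M (s • z) = s • f.lTensor M z from map_smul (AlgebraTensorModule.lTensor B M f) s z, hz,
        smul_zero, map_zero]
    obtain ⟨n, hn⟩ := exists_pow_smul_eq_zero h hu r h1
    have h2 : g ^ n • w = 0 :=
      Module.Flat.lTensor_preserves_injective_linearMap f hf (by rw [map_smul, hn, map_zero])
    refine ⟨s * algebraMap R B g ^ n, hmem n hs, ?_⟩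
    rw [mul_comm, mul_smul, hsc, ← hw, ← LinearMap.map_smul_of_tower, h2, map_zero]

omit [Module.FinitePresentation B M] [Algebra.Smooth R B] in
/-- A left inverse up to `u` passes to every base change. -/
theorem leftInv_baseChange {B' M' : Type u} [CommRing B'] [Algebra B B'] [AddCommGroup M'] [Module B' M'] [Module B M']
    [IsScalarTower B B' M'] (φ : M →ₗ[B] M') (hφ : IsBaseChange B' φ) (hβ : ∀ v, β (α v) = u • v) :
    ∃ (α' : (Fin r → B') →ₗ[B'] M') (β' : M' →ₗ[B'] (Fin r → B')),
      (∀ v, β' (α' v) = algebraMap B B' u • v) ∧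
      LinearMap.range α' = Submodule.span B' (φ '' (LinearMap.range α : Set M)) := by
  classical
  let e : (Fin r → B) →ₗ[B] (Fin r → B') := LinearMap.pi fun i => (Algebra.linearMap B B') ∘ₗ LinearMap.proj i
  let α' : (Fin r → B') →ₗ[B'] M' := Fintype.linearCombination B' fun i => φ (α (Pi.single i 1))
  let β' : M' →ₗ[B'] (Fin r → B') := hφ.lift (e ∘ₗ β)
  have he : ∀ i, e (Pi.single i 1) = Pi.single i 1 := fun i => funext fun j => by
    simp [e, Pi.single_apply, apply_ite (algebraMap B B')]
  have hα' : ∀ i, α' (Pi.single i 1) = φ (α (Pi.single i 1)) := fun i => by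
    simp [α', Fintype.linearCombination_apply_single]
  refine ⟨α', β', fun v => ?_, le_antisymm ?_ ?_⟩
  · suffices β' ∘ₗ α' = algebraMap B B' u • LinearMap.id from LinearMap.congr_fun this v
    refine LinearMap.pi_ext' fun i => LinearMap.ext_ring ?_
    show β' (α' (Pi.single i 1)) = algebraMap B B' u • Pi.single i 1
    rw [hα', hφ.lift_eq, LinearMap.comp_apply, hβ, map_smul, he, algebraMap_smul]
  · rintro _ ⟨v, rfl⟩
    rw [pi_eq_sum_univ' v, map_sum]
    refine sum_mem fun i _ => ?_
    rw [map_smul, hα']
    exact Submodule.smul_mem _ _ (Submodule.subset_span ⟨_, ⟨_, rfl⟩, rfl⟩)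
  · rw [Submodule.span_le]
    rintro _ ⟨_, ⟨v, rfl⟩, rfl⟩
    rw [pi_eq_sum_univ' v, map_sum, map_sum]
    refine sum_mem fun i _ => ?_
    rw [map_smul, map_smul, ← hα', ← algebraMap_smul B' (v i)]
    exact Submodule.smul_mem _ _ (LinearMap.mem_range_self _ _)

end Step

end Groth.Agent.GenRankLib
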