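import Groth.Agent.GenRankLib.Scheme
import Groth.Agent.DevBCLib.Step
import Groth.Agent.DevLib.Basic
import Groth.Agent.DevissLib.Complete

/-!
# Representability of flatness in dimensions at least `d` along a dévissage
-/

set_option autoImplicit false
set_option linter.style.haveILetI false
set_option backward.isDefEq.respectTransparency false
set_option backward.isDefEq.respectTransparency.types false
set_option maxHeartbeats 1000000

universe u

open CategoryTheory CategoryTheory.Limits AlgebraicGeometry TensorProduct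

noncomputable section

namespace Groth.Agent.GenRankLib

/-- Over some `D(g) ∋ s`, flatness in dimensions at least `d` is representable by a monomorphism of finite
presentation. -/
def Rep (A B : Type u) [CommRing A] [CommRing B] [Algebra A B] (M : Type u) [AddCommGroup M] [Module B M]
    (s : Ideal A) (d : ℕ) : Prop :=
  ∃ g : A, g ∉ s ∧ ∃ (Z : Scheme.{u}) (i : Z ⟶ Spec (CommRingCat.of A)),
    Mono i ∧ LocallyOfFinitePresentation i ∧ QuasiCompact i ∧ QuasiSeparated i ∧
    ∀ (A' B' M' : Type u) [CommRing A'] [CommRing B'] [Algebra A A'] [Algebra B B'] [Algebra A' B'] [Algebra A B']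
      [IsScalarTower A B B'] [IsScalarTower A A' B'] [Algebra.IsPushout A B A' B']
      [AddCommGroup M'] [Module B' M'] [Module B M'] [IsScalarTower B B' M'] [Module A' M'] [IsScalarTower A' B' M']
      (φ : M →ₗ[B] M'), IsBaseChange B' φ → IsUnit (algebraMap A A' g) →
      (FlatCA.FlatInDimGE d A' B' M' ↔
        ∃ k : Spec (CommRingCat.of A') ⟶ Z, k ≫ i = Spec.map (CommRingCat.ofHom (algebraMap A A')))

/-- The hypothesis: flatness at the points over `s` of transcendence degree more than `d`. -/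
def Hyp (A B : Type u) [CommRing A] [CommRing B] [Algebra A B] (M : Type u) [AddCommGroup M] [Module B M]
    [Module A M] [IsScalarTower A B M] (s : Ideal A) (d : ℕ) : Prop :=
  ∀ (Q : Ideal B) [Q.IsPrime], Q.LiesOver s → ¬ FlatCA.FlatAt A Q M → tr A Q < ((d + 1 : ℕ) : Cardinal.{u})

variable {A B : Type u} [CommRing A] [CommRing B] [Algebra A B] {s : Ideal A} {d : ℕ}
  {M N : Type u} [AddCommGroup M] [Module B M] [AddCommGroup N] [Module B N]

theorem Rep.congr (e : M ≃ₗ[B] N) (h : Rep A B M s d) : Rep A B N s d := by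
  obtain ⟨g, hg, Z, i, h1, h2, h3, h4, h5⟩ := h
  exact ⟨g, hg, Z, i, h1, h2, h3, h4, fun A' B' M' _ _ _ _ _ _ _ _ _ _ _ _ _ _ _ φ hφ hu =>
    h5 A' B' M' _ (hφ.comp_equiv e φ) hu⟩

theorem rep_of_forall [s.IsPrime] {g : A} (hg : g ∉ s)
    (h : ∀ (A' B' M' : Type u) [CommRing A'] [CommRing B'] [Algebra A A'] [Algebra B B'] [Algebra A' B'] [Algebra A B']
      [IsScalarTower A B B'] [IsScalarTower A A' B'] [Algebra.IsPushout A B A' B']
      [AddCommGroup M'] [Module B' M'] [Module B M'] [IsScalarTower B B' M'] [Module A' M'] [IsScalarTower A' B' M']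
      (φ : M →ₗ[B] M'), IsBaseChange B' φ → IsUnit (algebraMap A A' g) → FlatCA.FlatInDimGE d A' B' M') :
    Rep A B M s d :=
  ⟨g, hg, Spec (CommRingCat.of A), 𝟙 _, inferInstance, inferInstance, inferInstance, inferInstance,
    fun A' B' M' _ _ _ _ _ _ _ _ _ _ _ _ _ _ _ φ hφ hu =>
      iff_of_true (h A' B' M' φ hφ hu) ⟨Spec.map (CommRingCat.ofHom (algebraMap A A')), Category.comp_id _⟩⟩

section Finite

variable (C : Type u) [CommRing C] [Algebra A C] [Algebra B C] [IsScalarTower A B C] [Module.Finite B C]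
  (L : Type u) [AddCommGroup L] [Module C L] [Module B L] [IsScalarTower B C L]

omit [Module.Finite B C] [Module B L] [IsScalarTower B C L] in
theorem exists_model_map (A' B' C' : Type u) [CommRing A'] [CommRing B'] [CommRing C'] [Algebra A A']
    [Algebra B B'] [Algebra A' B'] [Algebra A B'] [IsScalarTower A B B'] [IsScalarTower A A' B']
    [Algebra.IsPushout A B A' B'] [Algebra C C'] [Algebra A' C'] [Algebra A C'] [IsScalarTower A C C']
    [IsScalarTower A A' C'] :
    ∃ ψ : B' →+* C', (∀ b, ψ (algebraMap B B' b) = algebraMap C C' (algebraMap B C b)) ∧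
      ∀ a, ψ (algebraMap A' B' a) = algebraMap A' C' a := by
  let ψ : B' →ₐ[A] C' := Algebra.pushoutDesc B' ((IsScalarTower.toAlgHom A C C').comp (IsScalarTower.toAlgHom A B C))
    (IsScalarTower.toAlgHom A A' C') fun x y => mul_comm _ _
  refine ⟨ψ.toRingHom, fun b => ?_, fun a => ?_⟩
  · show ψ (algebraMap B B' b) = _
    rw [Algebra.pushoutDesc_left]; rfl
  · show ψ (algebraMap A' B' a) = _
    rw [Algebra.pushoutDesc_right]; rfl

theorem flatInDimGE_models_iff (n : ℕ) (A' : Type u) [CommRing A'] [Algebra A A']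
    (B' M' : Type u) [CommRing B'] [Algebra B B'] [Algebra A' B'] [Algebra A B'] [IsScalarTower A B B'] [IsScalarTower A A' B']
        [Algebra.IsPushout A B A' B']
        [AddCommGroup M'] [Module B' M'] [Module B M'] [IsScalarTower B B' M'] [Module A' M'] [IsScalarTower A' B' M']
        (fB : L →ₗ[B] M') (hfB : IsBaseChange B' fB)
    (C' N' : Type u) [CommRing C'] [Algebra C C'] [Algebra A' C'] [Algebra A C'] [IsScalarTower A C C'] [IsScalarTower A A' C']
        [Algebra.IsPushout A C A' C']
        [AddCommGroup N'] [Module C' N'] [Module C N'] [IsScalarTower C C' N'] [Module A' N'] [IsScalarTower A' C' N']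
        (fC : L →ₗ[C] N') (hfC : IsBaseChange C' fC) :
    FlatCA.FlatInDimGE n A' B' M' ↔ FlatCA.FlatInDimGE n A' C' N' := by
  obtain ⟨ψ, hψ1, hψ2⟩ := exists_model_map (A := A) (B := B) C A' B' C'
  letI : Algebra B' C' := ψ.toAlgebra
  letI : Algebra B C' := ((algebraMap C C').comp (algebraMap B C)).toAlgebra
  haveI : IsScalarTower B C C' := IsScalarTower.of_algebraMap_eq fun _ => rfl
  haveI : IsScalarTower B B' C' := IsScalarTower.of_algebraMap_eq fun x => (hψ1 x).symm
  haveI : IsScalarTower A' B' C' := IsScalarTower.of_algebraMap_eq fun x => (hψ2 x).symm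
  haveI : IsScalarTower A B' C' := IsScalarTower.of_algebraMap_eq fun x => by
    rw [IsScalarTower.algebraMap_apply A A' B', RingHom.algebraMap_toAlgebra, hψ2, ← IsScalarTower.algebraMap_apply A A' C']
  haveI hpo : Algebra.IsPushout B C B' C' := (Algebra.IsPushout.comp_iff A A' B' (S := B) (T := C) (T' := C')).1 ‹_›
  haveI : Algebra.IsPushout B B' C C' := hpo.symm
  haveI : Module.Finite B' C' := Module.Finite.equiv (IsBaseChange.equiv (Algebra.IsPushout.out : IsBaseChange B'
    (IsScalarTower.toAlgHom B C C').toLinearMap))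
  letI : Module B N' := Module.compHom N' (algebraMap B C)
  haveI : IsScalarTower B C N' := IsScalarTower.of_algebraMap_smul fun _ _ => rfl
  letI : Module B' N' := Module.compHom N' (algebraMap B' C')
  haveI : IsScalarTower B' C' N' := IsScalarTower.of_algebraMap_smul fun _ _ => rfl
  haveI : IsScalarTower B B' N' := IsScalarTower.of_algebraMap_smul fun b x => by
    show algebraMap B' C' (algebraMap B B' b) • x = algebraMap B C b • x
    rw [← IsScalarTower.algebraMap_apply B B' C', IsScalarTower.algebraMap_apply B C C', algebraMap_smul]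
  haveI : IsScalarTower A' B' N' := IsScalarTower.of_algebraMap_smul fun a x => by
    show algebraMap B' C' (algebraMap A' B' a) • x = a • x
    rw [← IsScalarTower.algebraMap_apply A' B' C', algebraMap_smul]
  have hN : IsBaseChange B' (fC.restrictScalars B) :=
    IsBaseChange.of_equiv ((Algebra.IsPushout.cancelBaseChange B B' C C' L).symm.trans (hfC.equiv.restrictScalars B'))
      fun n => by
        simp only [LinearEquiv.trans_apply, Algebra.IsPushout.cancelBaseChange_symm_tmul, map_one,
          LinearEquiv.restrictScalars_apply, IsBaseChange.equiv_tmul, one_smul, LinearMap.coe_restrictScalars]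
  let e : M' ≃ₗ[B'] N' := hfB.equiv.symm.trans hN.equiv
  exact (flatInDimGE_equiv n e).trans (flatInDimGE_finite_iff (B := B') (C := C') n N')

attribute [local instance] Algebra.TensorProduct.rightAlgebra

/-- Representability can be tested over a finite algebra acting on the module. -/
theorem rep_finite_iff : Rep A B L s d ↔ Rep A C L s d := by
  constructor
  · rintro ⟨g, hg, Z, i, h1, h2, h3, h4, h5⟩
    refine ⟨g, hg, Z, i, h1, h2, h3, h4, fun A' C' N' _ _ _ _ _ _ _ _ _ _ _ _ _ _ _ φ hφ hu => ?_⟩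
    haveI : Algebra.IsPushout A B A' (A' ⊗[A] B) := Algebra.IsPushout.symm inferInstance
    rw [← flatInDimGE_models_iff (A := A) (B := B) C L d A' (A' ⊗[A] B) ((A' ⊗[A] B) ⊗[B] L) (TensorProduct.mk B _ L 1)
      (TensorProduct.isBaseChange B L _) C' N' φ hφ]
    exact h5 A' (A' ⊗[A] B) ((A' ⊗[A] B) ⊗[B] L) _ (TensorProduct.isBaseChange B L _) hu
  · rintro ⟨g, hg, Z, i, h1, h2, h3, h4, h5⟩
    refine ⟨g, hg, Z, i, h1, h2, h3, h4, fun A' B' M' _ _ _ _ _ _ _ _ _ _ _ _ _ _ _ φ hφ hu => ?_⟩
    haveI : Algebra.IsPushout A C A' (A' ⊗[A] C) := Algebra.IsPushout.symm inferInstance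
    rw [flatInDimGE_models_iff (A := A) (B := B) C L d A' B' M' φ hφ (A' ⊗[A] C) ((A' ⊗[A] C) ⊗[C] L) (TensorProduct.mk C _ L 1)
      (TensorProduct.isBaseChange C L _)]
    exact h5 A' (A' ⊗[A] C) ((A' ⊗[A] C) ⊗[C] L) _ (TensorProduct.isBaseChange C L _) hu

theorem hyp_finite_iff [Module A L] [IsScalarTower A B L] [IsScalarTower A C L] :
    Hyp A B L s d ↔ Hyp A C L s d := by
  haveI : Algebra.IsIntegral B C := Algebra.IsIntegral.of_finite B C
  constructor
  · intro h Q _ hQs hQ
    haveI := hQs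
    rw [← tr_comap (B := B) Q]
    exact h _ ⟨by rw [Ideal.under_under]; exact Q.over_def s⟩
      fun hf => hQ ((FlatAboveLib.flatAt_iff_of_integral (T := C) L (Q.under B)).1 hf Q rfl)
  · intro h P _ hPs hP
    by_contra hlt
    refine hP ((FlatAboveLib.flatAt_iff_of_integral (T := C) L P).2 fun Q _ hQ => ?_)
    by_contra hf
    refine hlt ?_
    subst hQ
    haveI := hPs
    have := h Q ⟨by rw [← Ideal.under_under (B := B) Q]; exact (Q.under B).over_def s⟩ hf
    rwa [← tr_comap (B := B) Q] at this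

end Finite

theorem Hyp.congr [Module A M] [IsScalarTower A B M] [Module A N] [IsScalarTower A B N] (e : M ≃ₗ[B] N)
    (h : Hyp A B M s d) : Hyp A B N s d := fun Q _ hQs hQ =>
  h Q hQs fun hf => hQ ((FlatAboveLib.flatAt_equiv Q e).1 hf)

section Step

variable [Module A M] [IsScalarTower A B M] [Module.FinitePresentation B M] [s.IsPrime]

/-- One step of the dévissage above dimension `d`. -/
theorem step {e r : ℕ} (hsm : FlatCA.SmoothRelDim e A B) (hirr : FlatCA.GeomIrredFibres A B) (hde : d < e)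
    [(s.map (algebraMap A B)).IsPrime] (α : (Fin r → B) →ₗ[B] M)
    (hα : Function.Bijective (α.baseChange (s.map (algebraMap A B)).ResidueField)) (hH : Hyp A B M s d) :
    Hyp A B (M ⧸ LinearMap.range α) s d ∧ (Rep A B (M ⧸ LinearMap.range α) s d → Rep A B M s d) := by
  haveI := DevissLib.smooth_of_smoothRelDim hsm
  haveI := DevissLib.liesOver_map hirr s
  have hflat : FlatCA.FlatAt A (s.map (algebraMap A B)) M := by
    by_contra hcon
    have := hH _ inferInstance hcon
    rw [tr_map hsm hirr s] at this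
    have : e < d + 1 := by exact_mod_cast this
    omega
  obtain ⟨u, hu, β, hβ⟩ := exists_leftInv hirr s α hα hflat
  obtain ⟨g₀, hg₀, hsub⟩ := DevLib.exists_basicOpen_subset_image u s (s.map (algebraMap A B)) hu
  have hu' : ∀ (p : Ideal A) [p.IsPrime], g₀ ∉ p → u ∉ p.map (algebraMap A B) := fun p _ hp hmem => by
    obtain ⟨Q, hQ, hQp⟩ := hsub ⟨p, inferInstance⟩ hp
    exact hQ ((show p.map (algebraMap A B) ≤ Q.asIdeal from
      Ideal.map_le_iff_le_comap.2 (congrArg PrimeSpectrum.asIdeal hQp).ge) hmem)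
  refine ⟨fun Q _ hQs hQ => hH Q hQs fun hf => hQ ?_, ?_⟩
  · exact (flatAt_coker_iff α hirr hβ hu' Q fun hm => hg₀ ((hQs.over).ge hm)).1 hf
  rintro ⟨g, hg, Z, i, h1, h2, h3, h4, h5⟩
  refine ⟨g₀ * g, fun hm => (‹s.IsPrime›.mem_or_mem hm).elim hg₀ hg, Z, i, h1, h2, h3, h4,
    fun A' B' M' _ _ _ _ _ _ _ _ _ _ _ _ _ _ _ φ hφ hunit => ?_⟩
  rw [map_mul, IsUnit.mul_iff] at hunit
  haveI : Algebra.IsPushout A A' B B' := Algebra.IsPushout.symm inferInstance
  have hirr' : FlatCA.GeomIrredFibres A' B' := DevBCLib.geomIrred_bc (D := B) (D' := B') hirr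
  haveI : Algebra.Smooth A' B' :=
    DevissLib.smooth_of_smoothRelDim (DevBCLib.smoothRelDim_bc (D := B) (D' := B') hsm)
  obtain ⟨α', β', hβ', hr⟩ := leftInv_baseChange α φ hφ hβ
  haveI : Module.FinitePresentation B' M' := Module.FinitePresentation.of_equiv hφ.equiv
  have hu'' : ∀ (p : Ideal A') [p.IsPrime], (1 : A') ∉ p → algebraMap B B' u ∉ p.map (algebraMap A' B') := by
    intro p _ _ hmem
    haveI : p.LiesOver (p.under A) := ⟨rfl⟩
    refine hu' (p.under A) (fun hm => (inferInstance : p.IsPrime).ne_top (Ideal.eq_top_of_isUnit_mem _ hm hunit.1)) ?_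
    rw [← DevBCLib.comap_map_prime (B' := B') (p.under A) p hirr]
    exact hmem
  obtain ⟨φ', hφ'⟩ := DevLib.exists_baseChange_coker α α' φ hφ hr
  rw [← h5 A' B' (M' ⧸ LinearMap.range α') φ' hφ' hunit.2, flatInDimGE_iff, flatInDimGE_iff]
  refine forall₂_congr fun Q hQ => ?_
  rw [flatAt_coker_iff α' hirr' hβ' hu'' Q (by rw [map_one]; exact fun h1 => hQ.ne_top ((Ideal.eq_top_iff_one _).2 h1))]

omit [Module A M] [IsScalarTower A B M] [Module.FinitePresentation B M] in
theorem rep_small {e : ℕ} (hsm : FlatCA.SmoothRelDim e A B) (hirr : FlatCA.GeomIrredFibres A B) (hde : e < d) :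
    Rep A B M s d := by
  refine rep_of_forall (g := 1) ((Ideal.ne_top_iff_one _).1 ‹s.IsPrime›.ne_top)
    fun A' B' M' _ _ _ _ _ _ _ _ _ _ _ _ _ _ _ φ hφ _ => ?_
  haveI : Algebra.IsPushout A A' B B' := Algebra.IsPushout.symm inferInstance
  rw [flatInDimGE_iff]
  intro Q _ _
  exact (tr_le (DevBCLib.smoothRelDim_bc (D := B) (D' := B') hsm) (DevBCLib.geomIrred_bc (D := B) (D' := B') hirr) Q).trans_lt
    (by exact_mod_cast hde)

omit [Module A M] [IsScalarTower A B M] [Module.FinitePresentation B M] in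
theorem rep_zero [Subsingleton M] : Rep A B M s d := by
  refine rep_of_forall (g := 1) ((Ideal.ne_top_iff_one _).1 ‹s.IsPrime›.ne_top)
    fun A' B' M' _ _ _ _ _ _ _ _ _ _ _ _ _ _ _ φ hφ _ => ?_
  haveI : Subsingleton (B' ⊗[B] M) := subsingleton_of_forall_eq 0 fun x => by
    induction x using TensorProduct.induction_on with
    | zero => rfl
    | tmul a m => rw [Subsingleton.elim m 0, TensorProduct.tmul_zero]
    | add a b ha hb => rw [ha, hb, add_zero]
  haveI : Subsingleton M' := hφ.equiv.symm.toEquiv.subsingleton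
  rw [flatInDimGE_iff]
  intro Q _ hQ
  refine absurd ?_ hQ
  rw [FlatAboveLib.flatAt_iff_kernel]
  intro X Y _ _ _ _ f _ z hz
  clear hz
  refine ⟨1, fun h1 => (inferInstance : Q.IsPrime).ne_top ((Ideal.eq_top_iff_one _).2 h1), ?_⟩
  rw [one_smul]
  induction z using TensorProduct.induction_on with
  | zero => rfl
  | tmul a m => rw [Subsingleton.elim a 0, TensorProduct.zero_tmul]
  | add a b ha hb => rw [ha, hb, add_zero]

end Step

end Groth.Agent.GenRankLib
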